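import Mathlib
import Cfsg.Agent.Lib.FormsDisc.Decomp
import Cfsg.Agent.Lib.OrthCrit.Forms
import Cfsg.Agent.Lib.UnitaryEmb.Basic
import Cfsg.Agent.Lib.Orth.Reflection

/-!
The two types of non-degenerate quadratic spaces of even dimension over a finite field, and the
odd-dimensional ones up to a scalar.
-/

set_option autoImplicit false

namespace CfsgLib.RootCount

open Module QuadraticMap
open CfsgLib.Classical.Quad (NDPolar)
open CfsgLib.FormsDisc (IsHypFamily)
open CfsgLib.OrthCrit (plusForm oddForm minusForm)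

variable {F : Type*} [Field F] [Fintype F] {V : Type*} [AddCommGroup V] [Module F V]
  [FiniteDimensional F V]

/-- The binary form `z₀² + a z₀ z₁ + b z₁²` has no non-trivial zero. -/
def Aniso (a b : F) : Prop := ∀ z₁ z₂ : F, z₁ ^ 2 + a * z₁ * z₂ + b * z₂ ^ 2 = 0 → z₁ = 0 ∧ z₂ = 0

omit [Fintype F] in
theorem Aniso.no_root {a b : F} (h : Aniso a b) (t : F) : t ^ 2 - a * t + b ≠ 0 := fun ht =>
  one_ne_zero (h (-t) 1 (by linear_combination ht)).2

theorem exists_aniso : ∃ a b : F, Aniso a b := by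
  have hninj : ¬ Function.Injective (fun t : F => t ^ 2 + t) := fun h =>
    one_ne_zero (neg_eq_zero.1 (h (show (-1 : F) ^ 2 + -1 = 0 ^ 2 + 0 by ring)))
  rw [Finite.injective_iff_surjective] at hninj
  obtain ⟨c, hc⟩ : ∃ c : F, ∀ t, t ^ 2 + t ≠ c := by
    by_contra! h
    exact hninj fun c => h c
  refine ⟨1, -c, fun z₁ z₂ h => ?_⟩
  by_cases hz : z₂ = 0
  · subst hz
    exact ⟨pow_eq_zero_iff two_ne_zero |>.1 (by linear_combination h), rfl⟩
  · refine absurd ?_ (hc (z₁ / z₂))
    field_simp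
    linear_combination h

theorem binary_equiv {a b a' b' : F} (h : Aniso a b) (h' : Aniso a' b') :
    ∃ f : (Fin 2 → F) ≃ₗ[F] (Fin 2 → F), ∀ z, f z 0 ^ 2 + a' * f z 0 * f z 1 + b' * f z 1 ^ 2 =
      z 0 ^ 2 + a * z 0 * z 1 + b * z 1 ^ 2 := by
  classical
  let P : Polynomial F := Polynomial.X ^ 2 - Polynomial.C a * Polynomial.X + Polynomial.C b
  have hdeg : P.natDegree = 2 := by simp only [P]; compute_degree!
  have hirr : Irreducible P := by
    refine (Polynomial.irreducible_iff_roots_eq_zero_of_degree_le_three (by omega) (by omega)).2 ?_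
    refine Multiset.eq_zero_of_forall_notMem fun t ht => h.no_root t ?_
    simpa [P] using (Polynomial.mem_roots'.1 ht).2
  have : Fact (Irreducible P) := ⟨hirr⟩
  let K := AdjoinRoot P
  haveI : Module.Finite F K := (AdjoinRoot.powerBasis hirr.ne_zero).finite
  haveI : Finite K := Module.finite_of_finite F
  haveI := Fintype.ofFinite K
  have hfin : finrank F K = 2 := by
    show finrank F (AdjoinRoot P) = 2
    rw [(AdjoinRoot.powerBasis hirr.ne_zero).finrank, AdjoinRoot.powerBasis_dim, hdeg]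
  have hK : Fintype.card K = Fintype.card F ^ 2 := by
    rw [Module.card_eq_pow_finrank (K := F) (V := K), hfin]
  have key : ∀ a b : F, Aniso a b → ∃ E : (Fin 2 → F) ≃ₗ[F] K, ∀ z,
      algebraMap F K (z 0 ^ 2 + a * z 0 * z 1 + b * z 1 ^ 2) = E z * CfsgLib.UnitaryEmb.conj F K (E z) := by
    intro a b hab
    obtain ⟨θ, hθ, hsum, hprod⟩ := CfsgLib.UnitaryEmb.exists_root_quadratic hK rfl a b hab.no_root
    let E : (Fin 2 → F) →ₗ[F] K :=
      (LinearMap.proj 0).smulRight (1 : K) + (LinearMap.proj 1).smulRight θ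
    have hE : ∀ z, E z = algebraMap F K (z 0) + algebraMap F K (z 1) * θ := fun z => by
      simp [E, Algebra.smul_def]
    have hinj : Function.Injective E := (injective_iff_map_eq_zero _).2 fun z hz => by
      rw [hE] at hz
      have h1 : z 1 = 0 := by
        by_contra h1
        refine hab.no_root (-(z 0) / z 1) ((algebraMap F K).injective ?_)
        have ht : algebraMap F K (-(z 0) / z 1) = θ := by
          rw [map_div₀, map_neg, div_eq_iff ((_root_.map_ne_zero _).2 h1)]
          linear_combination -hz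
        rw [map_add, map_sub, map_mul, map_pow, map_zero, ht]
        exact hθ
      rw [h1, map_zero, zero_mul, add_zero, map_eq_zero] at hz
      funext i; fin_cases i <;> assumption
    refine ⟨E.linearEquivOfInjective hinj (by rw [hfin]; simp), fun z => ?_⟩
    show _ = E z * CfsgLib.UnitaryEmb.conj F K (E z)
    rw [hE, map_add, map_add, map_mul, map_mul, map_mul, map_pow, map_pow, map_add (CfsgLib.UnitaryEmb.conj F K), map_mul (CfsgLib.UnitaryEmb.conj F K),
      AlgHom.commutes, AlgHom.commutes, ← hsum, ← hprod]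
    ring
  obtain ⟨E, hE⟩ := key a b h
  obtain ⟨E', hE'⟩ := key a' b' h'
  refine ⟨E.trans E'.symm, fun z => (algebraMap F K).injective ?_⟩
  rw [hE', hE, LinearEquiv.trans_apply, LinearEquiv.apply_symm_apply]

omit [Fintype F] [FiniteDimensional F V] in
theorem map_smul_mul (Q : QuadraticForm F V) (c : F) (x : V) : Q (c • x) = c * c * Q x := by
  rw [QuadraticMap.map_smul, smul_eq_mul]

/-- An anisotropic plane in normal form. -/
theorem exists_plane_basis (Q : QuadraticForm F V) (W : Submodule F V) (hW : finrank F W = 2)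
    (hani : ∀ w ∈ W, Q w = 0 → w = 0) (hnd : ∀ w ∈ W, (∀ w' ∈ W, polar Q w w' = 0) → w = 0) :
    ∃ (a b : F) (v w : V), Aniso a b ∧ v ∈ W ∧ w ∈ W ∧ LinearIndependent F ![v, w] ∧
      ∀ x y : F, Q (x • v + y • w) = x ^ 2 + a * x * y + b * y ^ 2 := by
  haveI : Nontrivial W := Module.nontrivial_of_finrank_pos (R := F) (by omega)
  obtain ⟨⟨v₀, hv₀⟩, hv₀'⟩ := exists_ne (0 : W)
  have hv₀0 : v₀ ≠ 0 := fun h => hv₀' (Subtype.ext h)
  have hc : Q v₀ ≠ 0 := fun h => hv₀0 (hani _ hv₀ h)
  have hindep : ∀ v ∈ W, v ≠ 0 → ∃ w ∈ W, w ∉ F ∙ v := fun v hv hv0 => by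
    by_contra! hall
    have := (Submodule.finrank_mono (show W ≤ F ∙ v from hall)).trans (finrank_span_singleton hv0).le
    omega
  obtain ⟨v, hv, hv1⟩ : ∃ v ∈ W, Q v = 1 := by
    by_cases h2 : (2 : F) = 0
    · have := CharTwo.of_one_ne_zero_of_two_eq_zero (R := F) one_ne_zero h2
      obtain ⟨s, hs⟩ := FiniteField.isSquare_of_char_two (ringChar.eq F 2) (Q v₀)⁻¹
      exact ⟨s • v₀, W.smul_mem _ hv₀, by rw [map_smul_mul, ← hs, inv_mul_cancel₀ hc]⟩
    · obtain ⟨u₀, hu₀, hu₀'⟩ := hindep v₀ hv₀ hv₀0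
      let u := u₀ - (polar Q v₀ u₀ / (2 * Q v₀)) • v₀
      have hu : u ∈ W := W.sub_mem hu₀ (W.smul_mem _ hv₀)
      have hu0 : u ≠ 0 := fun h => hu₀' (by
        rw [sub_eq_zero] at h; rw [h]; exact Submodule.smul_mem _ _ (Submodule.mem_span_singleton_self v₀))
      have horth : polar Q v₀ u = 0 := by
        simp only [u, polar_sub_right, polar_smul_right, CfsgLib.Classical.Quad.polar_self', smul_eq_mul]
        rw [div_mul_cancel₀ _ (mul_ne_zero h2 hc), sub_self]
      obtain ⟨s, t, hst⟩ := CfsgLib.FormsDisc.binary_represents_one h2 hc (fun h => hu0 (hani _ hu h))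
      refine ⟨s • v₀ + t • u, W.add_mem (W.smul_mem _ hv₀) (W.smul_mem _ hu), ?_⟩
      rw [QuadraticMap.map_add (⇑Q), map_smul_mul, map_smul_mul, polar_smul_left, polar_smul_right, horth,
        smul_zero, smul_zero, add_zero]
      linear_combination hst
  have hv0 : v ≠ 0 := fun h => by simp [h] at hv1
  obtain ⟨w, hw, hw'⟩ := hindep v hv hv0
  have hli : LinearIndependent F ![v, w] := by
    rw [linearIndependent_fin2]
    refine ⟨fun h => hw' (by simp at h; rw [h]; exact zero_mem _), fun c hc => hw' ?_⟩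
    simp at hc
    have hc0 : c ≠ 0 := fun h => hv0 (by rw [← hc, h, zero_smul])
    rw [← inv_smul_smul₀ hc0 w, hc]
    exact Submodule.smul_mem _ _ (Submodule.mem_span_singleton_self v)
  have hQ : ∀ x y : F, Q (x • v + y • w) = x ^ 2 + polar Q v w * x * y + Q w * y ^ 2 := fun x y => by
    rw [QuadraticMap.map_add (⇑Q), map_smul_mul, map_smul_mul, polar_smul_left, polar_smul_right, hv1,
      smul_eq_mul, smul_eq_mul]
    ring
  refine ⟨_, _, v, w, fun z₁ z₂ hz => ?_, hv, hw, hli, hQ⟩
  have h0 := hani _ (W.add_mem (W.smul_mem z₁ hv) (W.smul_mem z₂ hw)) ((hQ z₁ z₂).trans hz)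
  exact LinearIndependent.pair_iff.1 hli z₁ z₂ h0

omit [Fintype F] [FiniteDimensional F V] in
theorem Q_sum_singular (Q : QuadraticForm F V) {κ : Type*} (s : Finset κ) (c : κ → F) (e : κ → V)
    (h0 : ∀ i, Q (e i) = 0) (h1 : ∀ i j, polar Q (e i) (e j) = 0) : Q (∑ i ∈ s, c i • e i) = 0 := by
  classical
  induction s using Finset.cons_induction with
  | empty => simp
  | cons i s hi ih =>
    rw [Finset.sum_cons, QuadraticMap.map_add (⇑Q), ih, map_smul_mul, h0, ← polarBilin_apply_apply, map_sum]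
    simp [h1]

omit [Fintype F] [FiniteDimensional F V] in
theorem Q_hyp (Q : QuadraticForm F V) {k : ℕ} {e f : Fin k → V} (h : IsHypFamily Q e f) (x y : Fin k → F)
    (w : V) (hw : ∀ i, polar Q (e i) w = 0 ∧ polar Q (f i) w = 0) :
    Q ((∑ i, x i • e i) + (∑ i, y i • f i) + w) = (∑ i, x i * y i) + Q w := by
  classical
  have h1 : polar Q ((∑ i, x i • e i) + ∑ i, y i • f i) w = 0 := by
    rw [← polarBilin_apply_apply]
    simp [(hw _).1, (hw _).2]
  have h2 : polar Q (∑ i, x i • e i) (∑ i, y i • f i) = ∑ i, x i * y i := by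
    rw [← polarBilin_apply_apply]
    simp [h.pair, mul_comm]
  rw [QuadraticMap.map_add (⇑Q), h1, QuadraticMap.map_add (⇑Q), h2,
    Q_sum_singular Q _ x e (fun i => (h.sing i).1) fun i j => (h.iso i j).1,
    Q_sum_singular Q _ y f (fun i => (h.sing i).2) fun i j => (h.iso i j).2]
  ring

/-- Half-dimensional totally singular subspace. -/
def IsPlus (Q : QuadraticForm F V) : Prop :=
  ∃ U : Submodule F V, (∀ x ∈ U, Q x = 0) ∧ 2 * finrank F U = finrank F V

/-- An anisotropic plane orthogonal to hyperbolic pairs forbids a half-dimensional singular subspace. -/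
theorem not_isPlus_of_plane (Q : QuadraticForm F V) (hnd : NDPolar Q) {k : ℕ} {e f : Fin k → V}
    (h : IsHypFamily Q e f) (W : Submodule F V) (hW : finrank F W = 2)
    (hani : ∀ w ∈ W, Q w = 0 → w = 0) (horth : ∀ w ∈ W, ∀ i, polar Q (e i) w = 0 ∧ polar Q (f i) w = 0)
    (hdim : finrank F V = 2 * k + 2) : ¬ IsPlus Q := by
  classical
  rintro ⟨U, hU, hUdim⟩
  let b := Module.finBasisOfFinrankEq F W hW
  have hli := CfsgLib.FormsDisc.linearIndependent_family Q h (fun j => (b j : V))
    (b.linearIndependent.map' W.subtype (Submodule.ker_subtype W))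
    (fun j i => horth _ (b j).2 i)
  let E : Submodule F V := Submodule.span F (Set.range e)
  have hE : ∀ x ∈ E, ∃ c : Fin k → F, ∑ i, c i • e i = x := fun x hx =>
    (Submodule.mem_span_range_iff_exists_fun F).1 hx
  let EW : Submodule F V := E ⊔ W
  have hEW : finrank F EW = k + 2 := by
    have hli2 : LinearIndependent F (Sum.elim e (fun j => (b j : V))) := by
      have := hli.comp (Sum.map Sum.inl id) (Function.Injective.sumMap Sum.inl_injective Function.injective_id)
      convert this using 1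
      funext x; cases x <;> rfl
    have hspan : Submodule.span F (Set.range (Sum.elim e (fun j => (b j : V)))) = EW := by
      rw [Set.Sum.elim_range, Submodule.span_union]
      congr 1
      rw [show (fun j => (b j : V)) = W.subtype ∘ b from rfl, Set.range_comp, ← Submodule.map_span,
        b.span_eq, Submodule.map_top, Submodule.range_subtype]
    rw [← hspan, finrank_span_eq_card hli2]; simp
  -- the intersection with `E ⊔ W` lies in `E`
  let D : Submodule F V := U ⊓ EW
  have hDE : D ≤ E := by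
    rintro x ⟨hxU, hx⟩
    obtain ⟨z, hz, w, hw, rfl⟩ := Submodule.mem_sup.1 hx
    obtain ⟨c, rfl⟩ := hE z hz
    have h0 := hU _ hxU
    have h2 := Q_hyp Q h c 0 w (horth w hw)
    simp only [Pi.zero_apply, zero_smul, Finset.sum_const_zero, add_zero, mul_zero, zero_add] at h2
    rw [h2] at h0
    rw [hani w hw h0, add_zero]
    exact hz
  have hle : U ⊔ EW ≤ LinearMap.BilinForm.orthogonal (polarBilin Q) D := by
    refine sup_le (fun x hx d hd => ?_) (fun x hx d hd => ?_)
    · show polar Q d x = 0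
      rw [polar, hU _ (U.add_mem hd.1 hx), hU _ hd.1, hU _ hx]; ring
    · obtain ⟨c, rfl⟩ := hE d (hDE hd)
      obtain ⟨z, hz, w, hw, rfl⟩ := Submodule.mem_sup.1 hx
      obtain ⟨c', rfl⟩ := hE z hz
      have hee : ∀ i, polar Q (e i) (∑ i, c' i • e i) = 0 := fun i => by
        rw [← polarBilin_apply_apply, map_sum]; simp [(h.iso _ _).1]
      show polar Q _ _ = 0
      rw [← polarBilin_apply_apply]
      simp [hee, (horth w hw _).1]
  have h1 := Submodule.finrank_mono hle
  rw [CfsgLib.Orth.finrank_polar_orthogonal hnd] at h1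
  have h2 := Submodule.finrank_sup_add_finrank_inf_eq U EW
  change finrank F ↥(U ⊔ EW) ≤ finrank F V - finrank F ↥(U ⊓ EW) at h1
  have h3 := Submodule.finrank_le (U ⊓ EW)
  omega

/-- The classification in even dimension. -/
theorem classify_even (Q : QuadraticForm F V) (hnd : NDPolar Q) {m : ℕ} (hdim : finrank F V = 2 * m)
    {a c : F} (hac : Aniso a c) :
    (IsPlus Q ∧ ∃ E : (Fin m ⊕ Fin m → F) ≃ₗ[F] V, ∀ v, Q (E v) = plusForm m F v) ∨
    (¬ IsPlus Q ∧ ∃ k, m = k + 1 ∧
      ∃ E : ((Fin k ⊕ Fin k) ⊕ Fin 2 → F) ≃ₗ[F] V, ∀ v, Q (E v) = minusForm k F a c v) := by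
  classical
  obtain ⟨k, r, e, f, W, hn, hr, hf, hW, hani, horth, hndW⟩ :=
    CfsgLib.FormsDisc.exists_decomp (finrank F V) Q hnd rfl
  rcases (by omega : r = 0 ∨ r = 2) with rfl | rfl
  · left
    obtain rfl : k = m := by omega
    let E₀ : (Fin k ⊕ Fin k → F) →ₗ[F] V := Fintype.linearCombination F (Sum.elim e f)
    have hli := (CfsgLib.FormsDisc.linearIndependent_family Q hf (κ := Fin 0) Fin.elim0
      linearIndependent_empty_type (fun c => c.elim0)).comp Sum.inl Sum.inl_injective
    have hli' : LinearIndependent F (Sum.elim e f) := hli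
    have hinj : Function.Injective E₀ := by
      rw [injective_iff_map_eq_zero]
      intro v hv
      exact funext (Fintype.linearIndependent_iff.1 hli' v hv)
    let E := E₀.linearEquivOfInjective hinj (by rw [hdim]; simp [two_mul])
    have hE : ∀ v, Q (E v) = plusForm k F v := fun v => by
      have : E v = (∑ i, v (.inl i) • e i) + (∑ i, v (.inr i) • f i) + 0 := by
        simp [E, E₀, Fintype.linearCombination_apply, Fintype.sum_sum_type]
      rw [this, Q_hyp Q hf _ _ _ (fun i => by simp), QuadraticMap.map_zero, add_zero]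
      rfl
    refine ⟨⟨Submodule.span F (Set.range e), fun x hx => ?_, ?_⟩, E, hE⟩
    · obtain ⟨d, rfl⟩ := (Submodule.mem_span_range_iff_exists_fun F).1 hx
      exact Q_sum_singular Q _ d e (fun i => (hf.sing i).1) fun i j => (hf.iso i j).1
    · rw [finrank_span_eq_card (show LinearIndependent F e from hli'.comp Sum.inl Sum.inl_injective), hdim,
        Fintype.card_fin]
  · right
    obtain ⟨k', rfl⟩ : ∃ k', m = k' + 1 := ⟨m - 1, by omega⟩
    obtain rfl : k = k' := by omega
    refine ⟨not_isPlus_of_plane Q hnd hf W hW hani horth (by omega), k, rfl, ?_⟩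
    obtain ⟨a', b', v₁, w₁, hab', hv₁, hw₁, hli2, hQ⟩ := exists_plane_basis Q W hW hani hndW
    obtain ⟨g, hg⟩ := binary_equiv hac hab'
    have hli := CfsgLib.FormsDisc.linearIndependent_family Q hf ![v₁, w₁] hli2 (fun j i => by
      fin_cases j
      · exact horth v₁ hv₁ i
      · exact horth w₁ hw₁ i)
    let G : ((Fin k ⊕ Fin k) ⊕ Fin 2 → F) →ₗ[F] ((Fin k ⊕ Fin k) ⊕ Fin 2 → F) :=
      { toFun := fun v => Sum.elim (v ∘ Sum.inl) (g (v ∘ Sum.inr))
        map_add' := fun u v => by funext x; rcases x with x | x <;> simp [show (u + v) ∘ Sum.inr = u ∘ Sum.inr + v ∘ Sum.inr from rfl]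
        map_smul' := fun s v => by funext x; rcases x with x | x <;> simp [show (s • v) ∘ Sum.inr = s • (v ∘ Sum.inr) from rfl] }
    let E₀ : ((Fin k ⊕ Fin k) ⊕ Fin 2 → F) →ₗ[F] V :=
      (Fintype.linearCombination F (Sum.elim (Sum.elim e f) ![v₁, w₁])).comp G
    have hinj : Function.Injective E₀ := by
      rw [injective_iff_map_eq_zero]
      intro v hv
      have h0 := Fintype.linearIndependent_iff.1 hli (G v) hv
      funext x
      rcases x with x | x
      · exact h0 (.inl x)
      · have : g (v ∘ Sum.inr) = 0 := funext fun j => h0 (.inr j)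
        exact congrFun (g.map_eq_zero_iff.1 this) x
    refine ⟨E₀.linearEquivOfInjective hinj (by rw [hdim]; simp; ring), fun v => ?_⟩
    show Q (E₀ v) = _
    have : E₀ v = (∑ i, v (.inl (.inl i)) • e i) + (∑ i, v (.inl (.inr i)) • f i) +
        (g (v ∘ Sum.inr) 0 • v₁ + g (v ∘ Sum.inr) 1 • w₁) := by
      simp [E₀, G, Fintype.linearCombination_apply, Fintype.sum_sum_type]
    rw [this, Q_hyp Q hf _ _ _ (horth _ (W.add_mem (W.smul_mem _ hv₁) (W.smul_mem _ hw₁))), hQ, hg]
    simp [Cfsg.quadFormMinus]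

/-- In odd dimension the space is the standard one up to a scalar. -/
theorem classify_odd (h2 : (2 : F) ≠ 0) (Q : QuadraticForm F V) (hnd : NDPolar Q) {m : ℕ}
    (hdim : finrank F V = 2 * m + 1) :
    ∃ d : F, d ≠ 0 ∧ ∃ E : (Unit ⊕ (Fin m ⊕ Fin m) → F) ≃ₗ[F] V, ∀ v, Q (E v) = d * oddForm m F v := by
  classical
  obtain ⟨k, r, e, f, W, hn, hr, hf, hW, hani, horth, hndW⟩ :=
    CfsgLib.FormsDisc.exists_decomp (finrank F V) Q hnd rfl
  obtain rfl : r = 1 := by omega
  obtain rfl : k = m := by omega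
  haveI : Nontrivial W := Module.nontrivial_of_finrank_pos (R := F) (by omega)
  obtain ⟨⟨w, hw⟩, hw'⟩ := exists_ne (0 : W)
  have hw0 : w ≠ 0 := fun h => hw' (Subtype.ext h)
  have hd : Q w ≠ 0 := fun h => hw0 (hani w hw h)
  refine ⟨Q w, hd, ?_⟩
  have hli := CfsgLib.FormsDisc.linearIndependent_family Q hf (fun _ : Unit => w)
    (LinearIndependent.of_subsingleton () hw0) (fun _ i => horth w hw i)
  let G : (Unit ⊕ (Fin k ⊕ Fin k) → F) →ₗ[F] ((Fin k ⊕ Fin k) ⊕ Unit → F) :=
    { toFun := fun v => Sum.elim (Sum.elim (fun i => Q w * v (.inr (.inl i))) (fun i => v (.inr (.inr i)))) (fun _ => v (.inl ()))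
      map_add' := fun u v => by funext x; rcases x with (x | x) | x <;> simp [mul_add]
      map_smul' := fun s v => by funext x; rcases x with (x | x) | x <;> simp [mul_left_comm] }
  let E₀ : (Unit ⊕ (Fin k ⊕ Fin k) → F) →ₗ[F] V :=
    (Fintype.linearCombination F (Sum.elim (Sum.elim e f) (fun _ : Unit => w))).comp G
  have hinj : Function.Injective E₀ := by
    rw [injective_iff_map_eq_zero]
    intro v hv
    have h0 := Fintype.linearIndependent_iff.1 hli (G v) hv
    funext x
    rcases x with x | (x | x)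
    · exact h0 (.inr x)
    · exact (mul_eq_zero.1 (h0 (.inl (.inl x)))).resolve_left hd
    · exact h0 (.inl (.inr x))
  refine ⟨E₀.linearEquivOfInjective hinj (by rw [hdim]; simp; ring), fun v => ?_⟩
  show Q (E₀ v) = _
  have : E₀ v = (∑ i, (Q w * v (.inr (.inl i))) • e i) + (∑ i, v (.inr (.inr i)) • f i) + v (.inl ()) • w := by
    simp [E₀, G, Fintype.linearCombination_apply, Fintype.sum_sum_type]
  rw [this, Q_hyp Q hf _ _ _ (horth _ (W.smul_mem _ hw)), map_smul_mul]
  simp only [CfsgLib.OrthCrit.oddForm_apply, Cfsg.quadFormOdd, Finset.mul_sum, mul_add, mul_assoc]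
  ring

end CfsgLib.RootCount
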