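import Mathlib
import Cfsg.Agent.Lib.Semisimple.GL

/-!
The multiplicities of the `r`-th roots of unity as eigenvalues of matrices `g` with `g ^ r = 1`.
-/

set_option autoImplicit false

namespace CfsgLib.RootCount

open Polynomial Matrix

variable (F : Type*) [Field F] [Fintype F] (r : ℕ) [Fact r.Prime] [NeZero (r : F)]

/-- An algebraic closure carrying the roots of unity. -/
abbrev Clo := AlgebraicClosure F

theorem exists_zeta : ∃ z : Clo F, IsPrimitiveRoot z r := by
  haveI : NeZero (r : Clo F) := by
    constructor
    rw [← map_natCast (algebraMap F (Clo F))]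
    exact (_root_.map_ne_zero _).mpr (NeZero.ne _)
  exact HasEnoughRootsOfUnity.prim

/-- A primitive root. -/
noncomputable def zeta : Clo F := (exists_zeta F r).choose

theorem zeta_spec : IsPrimitiveRoot (zeta F r) r := (exists_zeta F r).choose_spec

/-- The root of unity with index `j`. -/
noncomputable def root (j : ZMod r) : Clo F := zeta F r ^ j.val

theorem root_injective : Function.Injective (root F r) := fun a b h =>
  ZMod.val_injective r ((zeta_spec F r).pow_inj (ZMod.val_lt a) (ZMod.val_lt b) h)

theorem root_natCast_mul (k : ℕ) (j : ZMod r) : root F r ((k : ZMod r) * j) = root F r j ^ k := by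
  have h1 : ∀ a : ℕ, zeta F r ^ a = zeta F r ^ (a % r) := fun a =>
    pow_eq_pow_mod a (zeta_spec F r).pow_eq_one
  rw [root, root, ← pow_mul, h1, h1 (j.val * k)]
  congr 1
  rw [← ZMod.natCast_eq_natCast_iff']
  simp [mul_comm]

theorem root_zero : root F r 0 = 1 := by simp [root]

theorem root_pow (j : ZMod r) : root F r j ^ r = 1 := by
  rw [root, ← pow_mul, mul_comm, pow_mul, (zeta_spec F r).pow_eq_one, one_pow]

theorem root_ne_zero (j : ZMod r) : root F r j ≠ 0 :=
  pow_ne_zero _ ((zeta_spec F r).ne_zero (Fact.out : r.Prime).ne_zero)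

theorem root_neg (j : ZMod r) : root F r (-j) = (root F r j)⁻¹ := by
  apply eq_inv_of_mul_eq_one_left
  rw [root, root, ← pow_add, (zeta_spec F r).pow_eq_one_iff_dvd, ← CharP.cast_eq_zero_iff (ZMod r) r]
  simp

theorem exists_root_eq {x : Clo F} (hx : x ^ r = 1) : ∃ j, root F r j = x := by
  obtain ⟨i, hi, rfl⟩ := (zeta_spec F r).eq_pow_of_pow_eq_one hx
  exact ⟨(i : ZMod r), by rw [root, ZMod.val_natCast, Nat.mod_eq_of_lt hi]⟩

variable {ι : Type*} [Fintype ι] [DecidableEq ι]

/-- The multiset of eigenvalues in the closure. -/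
noncomputable def eig (M : Matrix ι ι F) : Multiset (Clo F) :=
  (M.charpoly.map (algebraMap F (Clo F))).roots

/-- The multiplicity of each root of unity. -/
noncomputable def mult (M : Matrix ι ι F) (j : ZMod r) : ℕ := by
  classical exact (eig F M).count (root F r j)

theorem card_eig (M : Matrix ι ι F) : (eig F M).card = Fintype.card ι := by
  rw [eig, ← (IsAlgClosed.splits _).natDegree_eq_card_roots, natDegree_map, charpoly_natDegree_eq_dim]

theorem pow_eq_one_of_mem_eig {M : Matrix ι ι F} (hM : M ^ r = 1) {x : Clo F} (hx : x ∈ eig F M) :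
    x ^ r = 1 := by
  have hroot : (M.charpoly.map (algebraMap F (Clo F))).IsRoot x := (mem_roots'.mp hx).2
  rw [← Matrix.charpoly_map, ← Matrix.mem_spectrum_iff_isRoot_charpoly] at hroot
  have h := spectrum.pow_image_subset (𝕜 := Clo F) _ r ⟨x, hroot, rfl⟩
  rw [show (M.map (algebraMap F (Clo F))) ^ r = 1 by rw [← Matrix.map_pow, hM]; simp] at h
  cases isEmpty_or_nonempty ι
  · exact absurd h (by simp [spectrum.mem_iff, isUnit_of_subsingleton])
  · rw [spectrum.one_eq, Set.mem_singleton_iff] at h
    exact h

theorem eig_eq_sum {M : Matrix ι ι F} (hM : M ^ r = 1) :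
    eig F M = ∑ j, Multiset.replicate (mult F r M j) (root F r j) := by
  classical
  ext x
  rw [Multiset.count_sum']
  simp only [Multiset.count_replicate]
  by_cases hx : x ∈ eig F M
  · obtain ⟨j, rfl⟩ := exists_root_eq F r (pow_eq_one_of_mem_eig F r hM hx)
    rw [Finset.sum_eq_single j (fun b _ hb => if_neg fun h => hb (root_injective F r h)) (by simp), if_pos rfl]
    rfl
  · rw [Multiset.count_eq_zero.mpr hx, eq_comm, Finset.sum_eq_zero]
    intro j _
    split_ifs with h
    · rw [mult, h]; exact Multiset.count_eq_zero.mpr hx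
    · rfl

theorem sum_mult {M : Matrix ι ι F} (hM : M ^ r = 1) : ∑ j, mult F r M j = Fintype.card ι := by
  rw [← card_eig F M, eig_eq_sum F r hM]
  simp

theorem charpoly_map_eq {M : Matrix ι ι F} (hM : M ^ r = 1) :
    M.charpoly.map (algebraMap F (Clo F)) = ∏ j, (X - C (root F r j)) ^ mult F r M j := by
  rw [(IsAlgClosed.splits _).eq_prod_roots_of_monic ((charpoly_monic M).map _), ← eig, eig_eq_sum F r hM]
  suffices h : ∀ s : Finset (ZMod r),
      ((∑ j ∈ s, Multiset.replicate (mult F r M j) (root F r j)).map (fun x => X - C x)).prod =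
        ∏ j ∈ s, (X - C (root F r j)) ^ mult F r M j from h _
  intro s
  induction s using Finset.cons_induction with
  | empty => simp
  | cons a s ha ih =>
    rw [Finset.sum_cons, Finset.prod_cons, Multiset.map_add, Multiset.prod_add, ih,
      Multiset.map_replicate, Multiset.prod_replicate]

/-- The Frobenius permutes the multiplicities. -/
theorem mult_frob {M : Matrix ι ι F} (j : ZMod r) :
    mult F r M ((Fintype.card F : ZMod r) * j) = mult F r M j := by
  classical
  let φ : Clo F →+* Clo F := (FiniteField.frobeniusAlgHom F (Clo F)).toRingHom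
  have hφ : ∀ x, φ x = x ^ Fintype.card F := fun x => rfl
  have h1 : (eig F M).map φ = eig F M := by
    rw [eig, ← Polynomial.Splits.roots_map_of_injective (IsAlgClosed.splits _) φ.injective, Polynomial.map_map,
      show φ.comp (algebraMap F (Clo F)) = algebraMap F (Clo F) from
        RingHom.ext (FiniteField.frobeniusAlgHom F (Clo F)).commutes]
  simp only [mult, root_natCast_mul, ← hφ]
  conv_lhs => rw [← h1]
  exact Multiset.count_map_eq_count' _ _ φ.injective _

end CfsgLib.RootCount
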