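import Mathlib

/-!
Counting multiplicity functions on the `r`-th roots of unity, indexed by `ZMod r`, invariant under
multiplication by a group of units.
-/

set_option autoImplicit false

namespace CfsgLib.RootCount

open Finset

theorem card_sum_eq (α : Type*) [Fintype α] (N : ℕ) :
    Nat.card {a : α → ℕ // ∑ x, a x = N} = (Fintype.card α + N - 1).choose N := by
  classical
  rw [← Nat.card_congr (Sym.equivNatSumOfFintype α N), Nat.card_eq_fintype_card, Sym.card_sym_eq_choose]

theorem card_sum_le (α : Type*) [Fintype α] (N : ℕ) :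
    Nat.card {a : α → ℕ // ∑ x, a x ≤ N} = (N + Fintype.card α).choose (Fintype.card α) := by
  classical
  have e : {a : α → ℕ // ∑ x, a x ≤ N} ≃ {a : Option α → ℕ // ∑ x, a x = N} :=
    { toFun := fun a => ⟨fun o => o.elim (N - ∑ x, a.1 x) a.1, by
        rw [Fintype.sum_option]; exact Nat.sub_add_cancel a.2⟩
      invFun := fun a => ⟨fun x => a.1 (some x), by
        have := a.2; rw [Fintype.sum_option] at this; show ∑ x, a.1 (some x) ≤ N; omega⟩
      left_inv := fun a => rfl
      right_inv := fun a => Subtype.ext (funext fun o => by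
        cases o with
        | none =>
          have := a.2; rw [Fintype.sum_option] at this
          show N - ∑ x, a.1 (some x) = a.1 none; omega
        | some x => rfl) }
  rw [Nat.card_congr e, card_sum_eq, Fintype.card_option, show Fintype.card α + 1 + N - 1 = N + Fintype.card α by omega,
    Nat.choose_symm_add]

variable {r : ℕ} [Fact r.Prime] (H : Subgroup (ZMod r)ˣ)

/-- Invariance under a group of units. -/
def Inv (m : ZMod r → ℕ) : Prop := ∀ h ∈ H, ∀ x, m ((h : ZMod r) * x) = m x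

theorem inv_closure {S : Set (ZMod r)ˣ} (m : ZMod r → ℕ) (hm : ∀ h ∈ S, ∀ x, m ((h : ZMod r) * x) = m x) :
    Inv (Subgroup.closure S) m := by
  intro h hh
  induction hh using Subgroup.closure_induction with
  | mem a ha => exact hm a ha
  | one => simp
  | mul a b _ _ ha hb => intro x; rw [Units.val_mul, mul_assoc, ha, hb]
  | inv a _ ha => intro x; conv_rhs => rw [← Units.mul_inv_cancel_left a x, ha]

theorem sum_eq (m : ZMod r → ℕ) : ∑ x, m x = m 0 + ∑ u : (ZMod r)ˣ, m u := by
  classical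
  rw [← Finset.add_sum_erase _ _ (Finset.mem_univ (0 : ZMod r))]
  congr 1
  refine Finset.sum_bij' (fun x hx => Units.mk0 x (Finset.ne_of_mem_erase hx)) (fun u _ => (u : ZMod r))
    (fun x hx => Finset.mem_univ _) (fun u _ => Finset.mem_erase.mpr ⟨u.ne_zero, Finset.mem_univ _⟩)
    (fun x hx => rfl) (fun u _ => Units.ext rfl) (fun x hx => rfl)

theorem sum_lift (a : (ZMod r)ˣ ⧸ H → ℕ) [Fintype ((ZMod r)ˣ ⧸ H)] :
    ∑ u : (ZMod r)ˣ, a u = Nat.card H * ∑ c, a c := by
  classical
  rw [Finset.mul_sum, ← Finset.sum_fiberwise Finset.univ (fun u : (ZMod r)ˣ => (u : (ZMod r)ˣ ⧸ H))]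
  refine Finset.sum_congr rfl fun c _ => ?_
  rw [Finset.sum_congr rfl (fun u hu => congrArg a (Finset.mem_filter.mp hu).2), Finset.sum_const,
    smul_eq_mul]
  congr 1
  induction c using QuotientGroup.induction_on with
  | _ v =>
    rw [Nat.card_eq_fintype_card, ← Finset.card_univ (α := H)]
    refine Finset.card_bij' (fun u hu => ⟨v⁻¹ * u, QuotientGroup.eq.mp (Finset.mem_filter.mp hu).2.symm⟩)
      (fun h _ => v * h) (fun u hu => Finset.mem_univ _) (fun h _ => ?_) (fun u hu => by simp)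
      (fun h _ => by simp)
    rw [Finset.mem_filter]
    exact ⟨Finset.mem_univ _, (QuotientGroup.eq.mpr (by simp)).symm⟩

/-- The multiplicity function with given orbit values and total. -/
noncomputable def build (n : ℕ) (a : (ZMod r)ˣ ⧸ H → ℕ) [Fintype ((ZMod r)ˣ ⧸ H)] (x : ZMod r) : ℕ :=
  if hx : x = 0 then n - Nat.card H * ∑ c, a c else a (Units.mk0 x hx)

variable (n : ℕ) [Fintype ((ZMod r)ˣ ⧸ H)]

theorem build_units (a : (ZMod r)ˣ ⧸ H → ℕ) (u : (ZMod r)ˣ) : build H n a (u : ZMod r) = a u := by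
  simp [build]

theorem inv_build (a : (ZMod r)ˣ ⧸ H → ℕ) : Inv H (build H n a) := by
  intro h hh x
  by_cases hx : x = 0
  · simp [hx]
  · obtain ⟨u, rfl⟩ : IsUnit x := (Ne.isUnit hx)
    rw [← Units.val_mul, build_units, build_units]
    refine congrArg a (QuotientGroup.eq.mpr ?_)
    simpa [mul_comm h u] using hh

theorem sum_build (a : (ZMod r)ˣ ⧸ H → ℕ) (ha : Nat.card H * ∑ c, a c ≤ n) :
    ∑ x, build H n a x = n := by
  rw [sum_eq]
  simp only [build_units, sum_lift]
  simp only [build, dif_pos]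
  omega

/-- The orbit values of an invariant function. -/
def orbitFun (m : ZMod r → ℕ) (hm : Inv H m) : (ZMod r)ˣ ⧸ H → ℕ :=
  Quotient.lift (fun u : (ZMod r)ˣ => m u) fun u v huv => by
    have h : u⁻¹ * v ∈ H := QuotientGroup.leftRel_apply.mp huv
    show m u = m v
    rw [← hm _ h u, ← Units.val_mul, mul_comm, mul_inv_cancel_left]

/-- Invariant functions of total `n` with a condition on the value at zero, as orbit tuples. -/
noncomputable def tupleEquiv (P : ℕ → Prop) :
    {m : ZMod r → ℕ // Inv H m ∧ ∑ x, m x = n ∧ P (n - m 0)} ≃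
      {a : (ZMod r)ˣ ⧸ H → ℕ // Nat.card H * ∑ c, a c ≤ n ∧ P (Nat.card H * ∑ c, a c)} where
  toFun m :=
    ⟨orbitFun H m.1 m.2.1, by
      have hsum : Nat.card H * ∑ c, orbitFun H m.1 m.2.1 c = n - m.1 0 := by
        rw [← sum_lift]
        show ∑ u : (ZMod r)ˣ, m.1 u = _
        have h1 := m.2.2.1
        rw [sum_eq] at h1
        omega
      rw [hsum]; exact ⟨Nat.sub_le _ _, m.2.2.2⟩⟩
  invFun a := ⟨build H n a.1, inv_build H n a.1, sum_build H n a.1 a.2.1, by
    have h := a.2.2
    rwa [show n - build H n a.1 0 = Nat.card H * ∑ c, a.1 c by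
      have := a.2.1; simp only [build, dif_pos]; omega]⟩
  left_inv m := by
    refine Subtype.ext (funext fun x => ?_)
    by_cases hx : x = 0
    · subst hx
      have := m.2.2.1
      rw [sum_eq] at this
      simp only [build, dif_pos]
      rw [← sum_lift]
      show n - ∑ u : (ZMod r)ˣ, m.1 u = m.1 0
      omega
    · simp only [build, dif_neg hx]
      rfl
  right_inv a := by
    refine Subtype.ext (funext fun c => ?_)
    induction c using QuotientGroup.induction_on with
    | _ u => exact build_units H n a.1 u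

omit [Fintype ((ZMod r)ˣ ⧸ H)] in
theorem card_coset_space {s : ℕ} (hs : s * Nat.card H = r - 1) : Nat.card ((ZMod r)ˣ ⧸ H) = s := by
  have h1 := Subgroup.card_eq_card_quotient_mul_card_subgroup H
  rw [Nat.card_units, Nat.card_eq_fintype_card, ZMod.card, ← hs] at h1
  exact (Nat.eq_of_mul_eq_mul_right Nat.card_pos h1).symm

omit [Fintype ((ZMod r)ˣ ⧸ H)] in
theorem card_inv_le {s : ℕ} (hs : s * Nat.card H = r - 1) :
    Nat.card {m : ZMod r → ℕ // Inv H m ∧ ∑ x, m x = n} = (n / Nat.card H + s).choose s := by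
  classical
  have := Fintype.ofFinite ((ZMod r)ˣ ⧸ H)
  have e1 : {m : ZMod r → ℕ // Inv H m ∧ ∑ x, m x = n} ≃ {m : ZMod r → ℕ // Inv H m ∧ ∑ x, m x = n ∧ True} :=
    Equiv.subtypeEquivRight fun m => by simp
  have e2 : {a : (ZMod r)ˣ ⧸ H → ℕ // Nat.card H * ∑ c, a c ≤ n ∧ True} ≃
      {a : (ZMod r)ˣ ⧸ H → ℕ // ∑ c, a c ≤ n / Nat.card H} :=
    Equiv.subtypeEquivRight fun a => by rw [Nat.le_div_iff_mul_le Nat.card_pos]; simp [mul_comm]
  rw [Nat.card_congr (e1.trans ((tupleEquiv H n fun _ => True).trans e2)), card_sum_le,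
    ← Nat.card_eq_fintype_card, card_coset_space H hs]

omit [Fintype ((ZMod r)ˣ ⧸ H)] in
/-- The invariant functions using no zero: the whole space is filled by orbits. -/
theorem card_inv_full {s : ℕ} (hs : s * Nat.card H = r - 1) (hn : Nat.card H ∣ n) :
    Nat.card {m : ZMod r → ℕ // Inv H m ∧ ∑ x, m x = n ∧ m 0 = 0} =
      (n / Nat.card H + s - 1).choose (n / Nat.card H) := by
  classical
  have := Fintype.ofFinite ((ZMod r)ˣ ⧸ H)
  have e1 : {m : ZMod r → ℕ // Inv H m ∧ ∑ x, m x = n ∧ m 0 = 0} ≃ {m : ZMod r → ℕ // Inv H m ∧ ∑ x, m x = n ∧ n - m 0 = n} :=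
    Equiv.subtypeEquivRight fun m => by
      refine and_congr_right fun _ => and_congr_right fun h => ?_
      have := Finset.single_le_sum (fun x _ => Nat.zero_le (m x)) (Finset.mem_univ (0 : ZMod r))
      omega
  obtain ⟨k, rfl⟩ := hn
  have e2 : {a : (ZMod r)ˣ ⧸ H → ℕ // Nat.card H * ∑ c, a c ≤ Nat.card H * k ∧ Nat.card H * ∑ c, a c = Nat.card H * k} ≃
      {a : (ZMod r)ˣ ⧸ H → ℕ // ∑ c, a c = k} :=
    Equiv.subtypeEquivRight fun a =>
      ⟨fun h => Nat.eq_of_mul_eq_mul_left Nat.card_pos h.2, fun h => by simp [h]⟩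
  rw [Nat.card_congr (e1.trans ((tupleEquiv H _ fun x => x = Nat.card H * k).trans e2)), card_sum_eq,
    ← Nat.card_eq_fintype_card, card_coset_space H hs, Nat.mul_div_cancel_left _ Nat.card_pos, add_comm]

omit [Fintype ((ZMod r)ˣ ⧸ H)] in
theorem card_inv_nontrivial {s : ℕ} (hs : s * Nat.card H = r - 1) :
    Nat.card {m : ZMod r → ℕ // Inv H m ∧ ∑ x, m x = n ∧ m 0 ≠ n} = (n / Nat.card H + s).choose s - 1 := by
  classical
  let α := {m : ZMod r → ℕ // Inv H m ∧ ∑ x, m x = n}
  have : Finite α := Nat.finite_of_card_ne_zero (by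
    rw [card_inv_le H n hs]; exact (Nat.choose_pos (Nat.le_add_left _ _)).ne')
  let m₀ : α := ⟨Pi.single 0 n, fun h _ x => by
    by_cases hx : x = 0
    · simp [hx]
    · simp [hx], by simp⟩
  have e : {m : ZMod r → ℕ // Inv H m ∧ ∑ x, m x = n ∧ m 0 ≠ n} ≃ {m : α // m ≠ m₀} :=
    { toFun := fun m => ⟨⟨m.1, m.2.1, m.2.2.1⟩, fun h => m.2.2.2 (by
        have := congrFun (congrArg Subtype.val h) 0; simpa [m₀] using this)⟩
      invFun := fun m => ⟨m.1.1, m.1.2.1, m.1.2.2, fun h => m.2 (Subtype.ext (funext fun x => by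
        by_cases hx : x = 0
        · simp [m₀, hx, h]
        · have h2 := m.1.2.2
          rw [← Finset.add_sum_erase _ _ (Finset.mem_univ (0 : ZMod r)), h] at h2
          have h3 := Finset.single_le_sum (fun y _ => Nat.zero_le (m.1.1 y))
            (Finset.mem_erase.mpr ⟨hx, Finset.mem_univ x⟩)
          simp [m₀, hx]; omega))⟩
      left_inv := fun m => rfl
      right_inv := fun m => rfl }
  have := Fintype.ofFinite α
  rw [Nat.card_congr e, Nat.card_eq_fintype_card, Fintype.card_subtype_compl, Fintype.card_subtype_eq,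
    ← Nat.card_eq_fintype_card (α := α), card_inv_le H n hs]

end CfsgLib.RootCount
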