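import Mathlib
import Cfsg.Agent.Lib.RootCount.Roots
import Cfsg.Agent.Lib.RootCount.Tuples

/-!
Classes of elements with `g ^ r = 1` as multiplicity functions, and the effect of inversion, transposition
and field automorphisms on the multiplicities.
-/

set_option autoImplicit false

namespace CfsgLib.RootCount

open Polynomial Matrix

variable (F : Type*) [Field F] [Fintype F] (r : ℕ) [Fact r.Prime] [NeZero (r : F)]
variable {ι : Type*} [Fintype ι] [DecidableEq ι]

theorem mult_units_conj (a : GL ι F) (M : Matrix ι ι F) :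
    mult F r ((a : Matrix ι ι F) * M * ((a⁻¹ : GL ι F) : Matrix ι ι F)) = mult F r M := by
  funext j
  rw [mult, mult, eig, eig, Matrix.coe_units_inv, Matrix.charpoly_units_conj]

theorem mult_transpose (M : Matrix ι ι F) : mult F r M.transpose = mult F r M := by
  funext j
  rw [mult, mult, eig, eig, Matrix.charpoly_transpose]

/-- Elements with the same multiplicities are conjugate. -/
theorem isConj_of_mult_eq {g h : GL ι F} (hg : g ^ r = 1) (hh : h ^ r = 1)
    (hm : mult F r (g : Matrix ι ι F) = mult F r (h : Matrix ι ι F)) : IsConj g h := by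
  obtain ⟨p, hpc⟩ := CharP.exists F
  haveI : Fact p.Prime := ⟨CharP.char_is_prime F p⟩
  have hcop : ∀ x : GL ι F, x ^ r = 1 → (orderOf x).Coprime p := fun x hx => by
    refine Nat.Coprime.coprime_dvd_left (orderOf_dvd_of_pow_eq_one hx) ?_
    rw [Nat.coprime_comm, (Fact.out : p.Prime).coprime_iff_not_dvd, ← CharP.cast_eq_zero_iff F p]
    exact NeZero.ne _
  refine CfsgLib.Semisimple.isConj_of_charpoly_eq p g h (hcop g hg) (hcop h hh) ?_
  apply Polynomial.map_injective (algebraMap F (Clo F)) (algebraMap F (Clo F)).injective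
  rw [charpoly_map_eq F r (by rw [← Units.val_pow_eq_pow_val, hg, Units.val_one]),
    charpoly_map_eq F r (by rw [← Units.val_pow_eq_pow_val, hh, Units.val_one]), hm]

theorem mult_one_zero : mult F r (1 : Matrix ι ι F) 0 = Fintype.card ι := by
  classical
  rw [mult, eig, Matrix.charpoly_one, Polynomial.map_pow, Polynomial.map_sub, map_X, Polynomial.map_one,
    ← C_1, roots_pow, roots_X_sub_C, root_zero, Multiset.count_nsmul, Multiset.count_singleton_self, mul_one]

theorem eq_one_of_mult_zero {g : GL ι F} (hg : g ^ r = 1)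
    (h0 : mult F r (g : Matrix ι ι F) 0 = Fintype.card ι) : g = 1 := by
  classical
  have key : ∀ x : GL ι F, x ^ r = 1 → mult F r (x : Matrix ι ι F) 0 = Fintype.card ι →
      mult F r (x : Matrix ι ι F) = Pi.single 0 (Fintype.card ι) := by
    intro x hx hx0
    funext j
    by_cases hj : j = 0
    · rw [hj, hx0, Pi.single_eq_same]
    · have h1 := sum_mult F r (M := (x : Matrix ι ι F)) (by rw [← Units.val_pow_eq_pow_val, hx, Units.val_one])
      rw [← Finset.add_sum_erase _ _ (Finset.mem_univ (0 : ZMod r)), hx0] at h1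
      have h3 := Finset.single_le_sum (fun y _ => Nat.zero_le (mult F r (x : Matrix ι ι F) y))
        (Finset.mem_erase.mpr ⟨hj, Finset.mem_univ j⟩)
      rw [Pi.single_eq_of_ne hj]; omega
  have hc := isConj_of_mult_eq F r hg (one_pow r)
    ((key g hg h0).trans (key 1 (one_pow r) (by rw [Units.val_one]; exact mult_one_zero F r)).symm)
  exact isConj_one_left.mp hc

theorem mem_range_of_pow_card {x : Clo F} (hx : x ^ Fintype.card F = x) : x ∈ (algebraMap F (Clo F)).range := by
  classical
  let P : Polynomial (Clo F) := X ^ Fintype.card F - X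
  have hP : P ≠ 0 := FiniteField.X_pow_card_sub_X_ne_zero _ Fintype.one_lt_card
  let S := (Finset.univ : Finset F).image (algebraMap F (Clo F))
  have hroot : ∀ y, y ∈ P.roots ↔ y ^ Fintype.card F = y := fun y => by simp [P, mem_roots hP, sub_eq_zero]
  have hS : S ⊆ P.roots.toFinset := by
    intro y hy
    obtain ⟨a, -, rfl⟩ := Finset.mem_image.1 hy
    rw [Multiset.mem_toFinset, hroot, ← map_pow, FiniteField.pow_card]
  have hcard : P.roots.toFinset.card ≤ S.card := by
    rw [Finset.card_image_of_injective _ (algebraMap F (Clo F)).injective, Finset.card_univ,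
      ← FiniteField.X_pow_card_sub_X_natDegree_eq (Clo F) (Fintype.one_lt_card (α := F))]
    exact (Multiset.toFinset_card_le _).trans (card_roots' P)
  have : x ∈ S := by
    rw [Finset.eq_of_subset_of_card_le hS hcard, Multiset.mem_toFinset, hroot]; exact hx
  obtain ⟨a, -, ha⟩ := Finset.mem_image.1 this
  exact ⟨a, ha⟩

/-- Every Frobenius invariant multiplicity function occurs. -/
theorem exists_mult (m : ZMod r → ℕ) (hm : ∀ j, m ((Fintype.card F : ZMod r) * j) = m j)
    (hsum : ∑ j, m j = Fintype.card ι) :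
    ∃ g : GL ι F, g ^ r = 1 ∧ mult F r (g : Matrix ι ι F) = m := by
  classical
  let φ : Clo F →+* Clo F := (FiniteField.frobeniusAlgHom F (Clo F)).toRingHom
  have hφ : ∀ x, φ x = x ^ Fintype.card F := fun x => rfl
  let P : (Clo F)[X] := ∏ j, (X - C (root F r j)) ^ m j
  have hq : (Fintype.card F : ZMod r) ≠ 0 := by
    rw [Ne, CharP.cast_eq_zero_iff (ZMod r) r]
    intro hd
    obtain ⟨p, hpc⟩ := CharP.exists F
    obtain ⟨k, hp, hk⟩ := FiniteField.card F p
    rw [hk] at hd
    have hrp := (Nat.prime_dvd_prime_iff_eq (Fact.out : r.Prime) hp).mp ((Fact.out : r.Prime).dvd_of_dvd_pow hd)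
    exact NeZero.ne (r : F) (by rw [hrp]; exact CharP.cast_eq_zero F p)
  have hPφ : P.map φ = P := by
    simp only [P, Polynomial.map_prod, Polynomial.map_pow, Polynomial.map_sub, map_X, map_C]
    refine Fintype.prod_bijective _ (mulLeft_bijective₀ _ hq) _ _ fun j => ?_
    rw [hm j, hφ, ← root_natCast_mul]
  obtain ⟨P₀, hP₀, hdeg, hmon⟩ := lifts_and_natDegree_eq_and_monic
    ((lifts_iff_coeff_lifts P).mpr fun k => mem_range_of_pow_card F (by rw [← hφ, ← coeff_map, hPφ]))
    (monic_prod_of_monic _ _ fun j _ => (monic_X_sub_C _).pow _)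
  have hne : P ≠ 0 := (monic_prod_of_monic _ _ fun j _ => (monic_X_sub_C _).pow _).ne_zero
  have hroots : P.roots = ∑ j, Multiset.replicate (m j) (root F r j) := by
    simp only [P]
    rw [roots_prod _ _ hne]
    simp [roots_pow, Multiset.nsmul_singleton, Finset.sum, Multiset.sum, Multiset.bind, Multiset.join]
  have hdegP : P.natDegree = Fintype.card ι := by
    rw [(IsAlgClosed.splits P).natDegree_eq_card_roots, hroots, ← hsum]
    simp
  obtain ⟨p, hpc⟩ := CharP.exists F
  haveI : Fact p.Prime := ⟨CharP.char_is_prime F p⟩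
  have h0 : P₀.eval 0 ≠ 0 := by
    intro h
    have h1 : (0 : Clo F) ∈ P.roots := by
      rw [mem_roots hne, ← hP₀, IsRoot, ← coeff_zero_eq_eval_zero, coeff_map, coeff_zero_eq_eval_zero, h, map_zero]
    rw [hroots, Multiset.mem_sum] at h1
    obtain ⟨j, -, hj⟩ := h1
    exact root_ne_zero F r j (Multiset.eq_of_mem_replicate hj).symm
  obtain ⟨g₀, hg₀, hg₀c⟩ := CfsgLib.Semisimple.exists_GL_charpoly p P₀ hmon h0 (hdeg.trans hdegP)
  let e := (Fintype.equivFin ι).symm
  let g : GL ι F := Units.map (Matrix.reindexAlgEquiv F F e).toMulEquiv.toMonoidHom g₀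
  have hgc : (g : Matrix ι ι F).charpoly = P₀ := by
    rw [← hg₀c]
    exact Matrix.charpoly_reindex e _
  have heig : eig F (g : Matrix ι ι F) = ∑ j, Multiset.replicate (m j) (root F r j) := by
    rw [eig, hgc, hP₀, hroots]
  refine ⟨g, ?_, funext fun j => ?_⟩
  · have hsep : (minpoly F (g : Matrix ι ι F)).Separable := by
      refine Polynomial.Separable.of_dvd (X_pow_sub_one_separable_iff.2
        (CfsgLib.Semisimple.cast_orderOf_ne_zero p g (Nat.Coprime.coprime_dvd_left (orderOf_map_dvd _ g₀) hg₀)))
        (minpoly.dvd F _ ?_)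
      simp [← Units.val_pow_eq_pow_val, pow_orderOf_eq_one]
    have hdvd : minpoly F (g : Matrix ι ι F) ∣ X ^ r - 1 := by
      apply (Polynomial.map_dvd_map' (algebraMap F (Clo F))).mp
      have hne1 : (minpoly F (g : Matrix ι ι F)).map (algebraMap F (Clo F)) ≠ 0 :=
        Polynomial.map_ne_zero (minpoly.ne_zero (Matrix.isIntegral _))
      refine (IsAlgClosed.splits _).dvd_of_roots_le_roots hne1 ?_
      rw [Multiset.le_iff_subset (nodup_roots hsep.map)]
      intro x hx
      have hx' : x ∈ eig F (g : Matrix ι ι F) :=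
        Multiset.mem_of_le (roots.le_of_dvd (map_ne_zero (charpoly_monic _).ne_zero)
          (Polynomial.map_dvd _ (Matrix.minpoly_dvd_charpoly _))) hx
      rw [heig, Multiset.mem_sum] at hx'
      obtain ⟨j, -, hj⟩ := hx'
      rw [Multiset.eq_of_mem_replicate hj, mem_roots]
      · simp [root_pow]
      · simp only [Polynomial.map_sub, Polynomial.map_pow, map_X, Polynomial.map_one]
        exact X_pow_sub_C_ne_zero (Fact.out : r.Prime).pos 1
    obtain ⟨c, hc⟩ := hdvd
    have h2 : aeval (g : Matrix ι ι F) (X ^ r - 1 : F[X]) = 0 := by rw [hc, map_mul, minpoly.aeval, zero_mul]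
    simp [sub_eq_zero] at h2
    exact Units.ext (by rw [Units.val_pow_eq_pow_val]; exact h2)
  · rw [mult, heig, Multiset.count_sum', Finset.sum_eq_single j
      (fun b _ hb => by rw [Multiset.count_replicate, if_neg fun h => hb (root_injective F r h)]) (by simp),
      Multiset.count_replicate_self]

/-- Multiplicities of the inverse. -/
theorem mult_inv {g : GL ι F} (hg : g ^ r = 1) (j : ZMod r) :
    mult F r ((g⁻¹ : GL ι F) : Matrix ι ι F) j = mult F r (g : Matrix ι ι F) (-j) := by
  classical
  set M := (g : Matrix ι ι F)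
  have hnz : ∀ x ∈ eig F M, x ≠ 0 := fun x hx h => by
    have := pow_eq_one_of_mem_eig F r (by rw [← Units.val_pow_eq_pow_val, hg, Units.val_one]) hx
    rw [h, zero_pow (Fact.out : r.Prime).ne_zero] at this
    exact zero_ne_one this
  have hrev : ∀ s : Multiset (Clo F), (∀ x ∈ s, x ≠ 0) → ((s.map fun x => X - C x).prod).reverse.roots = s.map (·⁻¹) := by
    intro s
    induction s using Multiset.induction_on with
    | empty => intro _; rw [Multiset.map_zero, Multiset.prod_zero, ← C_1, reverse_C, roots_C, Multiset.map_zero]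
    | cons a s ih =>
      intro ha
      have hr1 : (X - C a : (Clo F)[X]).reverse = C (-a) * X + C 1 := by
        rw [sub_eq_add_neg, ← C_neg, reverse, natDegree_X_add_C, reflect_add, reflect_C, pow_one,
          show reflect 1 (X : (Clo F)[X]) = C 1 by rw [← pow_one X, reflect_monomial]; simp, add_comm]
      rw [Multiset.map_cons, Multiset.prod_cons, reverse_mul_of_domain, roots_mul, hr1,
        roots_C_mul_X_add_C _ (neg_ne_zero.mpr (ha a (Multiset.mem_cons_self _ _))),
        ih fun x hx => ha x (Multiset.mem_cons_of_mem hx), Multiset.map_cons, Multiset.singleton_add]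
      · simp [inv_neg]
      · refine mul_ne_zero ?_ ?_ <;> rw [Ne, reverse_eq_zero]
        · exact X_sub_C_ne_zero a
        · exact (monic_multiset_prod_of_monic s _ fun x _ => monic_X_sub_C x).ne_zero
  have hinv : eig F ((g⁻¹ : GL ι F) : Matrix ι ι F) = (eig F M).map (·⁻¹) := by
    rw [eig, Matrix.coe_units_inv, Matrix.charpoly_inv _ g.isUnit, ← Matrix.reverse_charpoly, Polynomial.map_mul,
      ← map_one (C (R := F)), ← map_neg, ← map_pow, ← C_mul, map_C, roots_C_mul, 
      show (M.charpoly.reverse).map (algebraMap F (Clo F)) = (M.charpoly.map (algebraMap F (Clo F))).reverse by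
        rw [reverse, reverse, natDegree_map, reflect_map]]
    · rw [(IsAlgClosed.splits _).eq_prod_roots_of_monic ((charpoly_monic M).map _)]
      exact hrev _ hnz
    · rw [_root_.map_ne_zero, mul_ne_zero_iff]
      exact ⟨pow_ne_zero _ (neg_ne_zero.mpr one_ne_zero), by
        rw [Ring.inverse_eq_inv']; exact inv_ne_zero ((Matrix.isUnit_iff_isUnit_det _).mp g.isUnit).ne_zero⟩
  rw [mult, hinv, mult, root_neg]
  conv_lhs => rw [← inv_inv (root F r j)]
  exact Multiset.count_map_eq_count' _ _ inv_injective _

/-- Multiplicities of the image under a field automorphism acting on roots of unity by the `k`-th power. -/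
theorem mult_map (φ : F →+* F) {k : ℕ} (hk : ∀ x, φ x = x ^ k) (hkr : (k : ZMod r) ≠ 0)
    (ψ : Clo F →+* Clo F) (hψ : ∀ x, ψ x = x ^ k) (M : Matrix ι ι F) (j : ZMod r) :
    mult F r (M.map φ) ((k : ZMod r) * j) = mult F r M j := by
  classical
  have hcomm : (algebraMap F (Clo F)).comp φ = ψ.comp (algebraMap F (Clo F)) :=
    RingHom.ext fun x => by simp [hk, hψ]
  simp only [mult, eig, root_natCast_mul, ← hψ, Matrix.charpoly_map]
  rw [Polynomial.map_map, hcomm, ← Polynomial.map_map,
    Polynomial.Splits.roots_map_of_injective (IsAlgClosed.splits _) ψ.injective]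
  exact Multiset.count_map_eq_count' _ _ ψ.injective _

end CfsgLib.RootCount
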