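import Mathlib
import Cfsg.Agent.Lib.RootCount.GL

/-!
Classes of elements of order `r` in a subgroup of `GL` in which conjugacy is controlled by `GL`.
-/

set_option autoImplicit false

namespace CfsgLib.RootCount

open Polynomial Matrix

variable (F : Type*) [Field F] [Fintype F] (r : ℕ) [Fact r.Prime] [NeZero (r : F)]
variable {ι : Type*} [Fintype ι] [DecidableEq ι]

/-- The classes of elements of order `r` are the realised multiplicity functions other than the trivial one. -/
theorem card_classes {G : Type*} [Group G] (j : G →* GL ι F) (hinj : Function.Injective j)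
    (hconj : ∀ a b : G, a ^ r = 1 → b ^ r = 1 → IsConj (j a) (j b) → IsConj a b)
    (P : (ZMod r → ℕ) → Prop)
    (hreal : ∀ g : GL ι F, g ^ r = 1 → ((∃ a, IsConj (j a) g) ↔ P (mult F r (g : Matrix ι ι F)))) :
    Nat.card {C : ConjClasses G // ∃ g : G, ConjClasses.mk g = C ∧ orderOf g = r} =
      Nat.card {m : ZMod r → ℕ // (∀ x, m ((Fintype.card F : ZMod r) * x) = m x) ∧ P m ∧
        ∑ x, m x = Fintype.card ι ∧ m 0 ≠ Fintype.card ι} := by
  classical
  have hpow : ∀ a : G, orderOf a = r → (j a) ^ r = 1 := fun a ha => by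
    rw [← map_pow, ← ha, pow_orderOf_eq_one, map_one]
  have hval : ∀ g : GL ι F, g ^ r = 1 → (g : Matrix ι ι F) ^ r = 1 := fun g hg => by
    rw [← Units.val_pow_eq_pow_val, hg, Units.val_one]
  let Φ : {C : ConjClasses G // ∃ g : G, ConjClasses.mk g = C ∧ orderOf g = r} →
      {m : ZMod r → ℕ // (∀ x, m ((Fintype.card F : ZMod r) * x) = m x) ∧ P m ∧
        ∑ x, m x = Fintype.card ι ∧ m 0 ≠ Fintype.card ι} := fun C =>
    ⟨mult F r (j C.2.choose : Matrix ι ι F), fun x => mult_frob F r x,
      (hreal _ (hpow _ C.2.choose_spec.2)).1 ⟨_, IsConj.refl _⟩,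
      sum_mult F r (hval _ (hpow _ C.2.choose_spec.2)), fun h0 => by
        have h1 : C.2.choose = 1 := hinj (by
          rw [map_one]; exact eq_one_of_mult_zero F r (hpow _ C.2.choose_spec.2) h0)
        have h2 := C.2.choose_spec.2
        rw [h1, orderOf_one] at h2
        exact (Fact.out : r.Prime).one_lt.ne h2⟩
  have hΦ : ∀ (C : {C : ConjClasses G // ∃ g : G, ConjClasses.mk g = C ∧ orderOf g = r}) (a : G),
      ConjClasses.mk a = C.1 → (Φ C).1 = mult F r (j a : Matrix ι ι F) := fun C a ha => by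
    obtain ⟨c, hc⟩ := isConj_iff.1 (ConjClasses.mk_eq_mk_iff_isConj.1 (ha.trans C.2.choose_spec.1.symm))
    show mult F r (j C.2.choose : Matrix ι ι F) = _
    rw [← hc, map_mul, map_mul, map_inv, Units.val_mul, Units.val_mul, mult_units_conj]
  have hbij : Function.Bijective Φ := by
    constructor
    · intro C D h
      refine Subtype.ext ?_
      rw [← C.2.choose_spec.1, ← D.2.choose_spec.1, ConjClasses.mk_eq_mk_iff_isConj]
      refine hconj _ _ (orderOf_dvd_iff_pow_eq_one.1 (dvd_of_eq C.2.choose_spec.2))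
        (orderOf_dvd_iff_pow_eq_one.1 (dvd_of_eq D.2.choose_spec.2)) ?_
      exact isConj_of_mult_eq F r (hpow _ C.2.choose_spec.2) (hpow _ D.2.choose_spec.2)
        (congrArg Subtype.val h)
    · intro m
      obtain ⟨g, hg, hgm⟩ := exists_mult F r (ι := ι) m.1 m.2.1 m.2.2.2.1
      obtain ⟨a, ha⟩ := (hreal g hg).2 (hgm ▸ m.2.2.1)
      obtain ⟨c, hc⟩ := isConj_iff.1 ha
      have ham : mult F r (j a : Matrix ι ι F) = m.1 := by
        rw [← hgm, ← hc, Units.val_mul, Units.val_mul, mult_units_conj]
      have har : a ^ r = 1 := hinj (by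
        rw [map_pow, map_one, ← show c⁻¹ * g * c = j a by rw [← hc]; group]
        have hh := conj_pow (a := c⁻¹) (b := g) (i := r)
        rw [inv_inv] at hh
        rw [hh, hg, mul_one, inv_mul_cancel])
      have hord : orderOf a = r := orderOf_eq_prime har (fun h1 => m.2.2.2.2 (by
        rw [← ham, h1, map_one, Units.val_one, mult_one_zero]))
      exact ⟨⟨ConjClasses.mk a, a, rfl, hord⟩, Subtype.ext ((hΦ _ a rfl).trans ham)⟩
  exact Nat.card_eq_of_bijective Φ hbij

omit [Fintype F] [NeZero (r : F)] in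
/-- Invariance under a cyclic group of units is invariance under its generator. -/
theorem inv_zpowers_iff (h : (ZMod r)ˣ) (m : ZMod r → ℕ) :
    Inv (Subgroup.zpowers h) m ↔ ∀ x, m ((h : ZMod r) * x) = m x := by
  refine ⟨fun hi => hi h (Subgroup.mem_zpowers h), fun hm => ?_⟩
  rw [Subgroup.zpowers_eq_closure]
  exact inv_closure m (fun g hg => by rw [Set.mem_singleton_iff.1 hg]; exact hm)

/-- Count of classes in `GL`. -/
theorem card_classes_gl (i s : ℕ) (hi : i = orderOf (Fintype.card F : ZMod r)) (hs : s * i = r - 1) :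
    Nat.card {C : ConjClasses (GL ι F) // ∃ g : GL ι F, ConjClasses.mk g = C ∧ orderOf g = r} =
      (Fintype.card ι / i + s).choose s - 1 := by
  classical
  rw [card_classes F r (MonoidHom.id _) Function.injective_id (fun a b _ _ h => h) (fun _ => True)
    (fun g _ => iff_of_true ⟨g, IsConj.refl _⟩ trivial)]
  have hi0 : i ≠ 0 := fun h => by
    rw [h, mul_zero] at hs; have := (Fact.out : r.Prime).two_le; omega
  have hu : IsUnit (Fintype.card F : ZMod r) := by
    refine Ne.isUnit fun h0 => hi0 ?_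
    rw [hi, h0, orderOf_zero]
  obtain ⟨u, hu⟩ := hu
  have hcard : Nat.card (Subgroup.zpowers u) = i := by
    rw [Nat.card_zpowers, ← orderOf_units, hu, hi]
  rw [← hcard, ← card_inv_nontrivial (Subgroup.zpowers u) (Fintype.card ι) (hcard ▸ hs)]
  exact Nat.card_congr (Equiv.subtypeEquivRight fun m => by rw [inv_zpowers_iff r, hu]; simp)

end CfsgLib.RootCount
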