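import Mathlib
import Cfsg.Agent.Lib.Conj.NormUnits

/-!
Norms and Hilbert 90 in commutative algebras closed under the adjoint of a bilinear form, and the
consequences for forms invariant under an automorphism without eigenvalues `1` and `-1`.
-/

set_option autoImplicit false

namespace CfsgLib.RootCount

variable {F : Type*} [Field F] [Finite F] {V : Type*} [AddCommGroup V] [Module F V]
  [FiniteDimensional F V]

/-- Two endomorphisms are adjoint to one another, in both orders. -/
def Adj (B : LinearMap.BilinForm F V) (a b : Module.End F V) : Prop :=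
  (∀ x y, B (a x) y = B x (b y)) ∧ ∀ x y, B (b x) y = B x (a y)

theorem right_nondeg (B : LinearMap.BilinForm F V) (hB : ∀ x, (∀ y, B x y = 0) → x = 0) (y : V)
    (hy : ∀ x, B x y = 0) : y = 0 := by
  have hinj : Function.Injective B := (injective_iff_map_eq_zero _).2 fun x hx =>
    hB x fun y => by rw [hx]; rfl
  have hsur := (LinearMap.injective_iff_surjective_of_finrank_eq_finrank Subspace.dual_finrank_eq.symm).1 hinj
  refine (Module.forall_dual_apply_eq_zero_iff F y).1 fun φ => ?_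
  obtain ⟨x, rfl⟩ := hsur φ
  exact hy x

theorem adj_unique (B : LinearMap.BilinForm F V) (hB : ∀ x, (∀ y, B x y = 0) → x = 0)
    {a b b' : Module.End F V} (h : Adj B a b) (h' : Adj B a b') : b = b' := by
  refine LinearMap.ext fun y => sub_eq_zero.1 (right_nondeg B hB _ fun x => ?_)
  rw [map_sub, ← h.1, ← h'.1, sub_self]

/-- A bilinear form is represented through a non-degenerate one. -/
theorem exists_repr (B C : LinearMap.BilinForm F V) (hB : ∀ x, (∀ y, B x y = 0) → x = 0) :
    ∃ T : Module.End F V, ∀ x y, B (T x) y = C x y := by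
  have hinj : Function.Injective B := (injective_iff_map_eq_zero _).2 fun x hx =>
    hB x fun y => by rw [hx]; rfl
  let e : V ≃ₗ[F] Module.Dual F V := LinearEquiv.ofBijective B
    ⟨hinj, (LinearMap.injective_iff_surjective_of_finrank_eq_finrank Subspace.dual_finrank_eq.symm).1 hinj⟩
  exact ⟨e.symm.toLinearMap ∘ₗ C, fun x y => LinearMap.congr_fun (e.apply_symm_apply (C x)) y⟩

theorem adjoin_norm (B : LinearMap.BilinForm F V) (hB : ∀ x, (∀ y, B x y = 0) → x = 0)
    (G : Set (Module.End F V)) (hcomm : ∀ a ∈ G, ∀ b ∈ G, a * b = b * a)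
    (hadj : ∀ a ∈ G, ∃ b ∈ Algebra.adjoin F G, Adj B a b)
    {w w' : Module.End F V} (hw : w ∈ G) (hww : Adj B w w') (hwu : IsUnit (w' - w)) :
    (∀ x ∈ Algebra.adjoin F G, ∀ x', Adj B x x' → x * x' = 1 →
      ∃ y y' : Module.End F V, IsUnit y ∧ y ∈ Algebra.adjoin F G ∧ Adj B y y' ∧ x * y' = y) ∧
    (∀ u ∈ Algebra.adjoin F G, Adj B u u → IsUnit u →
      ∃ y y' : Module.End F V, IsUnit y ∧ y ∈ Algebra.adjoin F G ∧ Adj B y y' ∧ y' * y = u) := by
  haveI : Finite V := Module.finite_of_finite F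
  haveI : Finite (Module.End F V) := Finite.of_injective (fun f => (f : V → V)) DFunLike.coe_injective
  have hall : ∀ a ∈ Algebra.adjoin F G, ∀ b ∈ Algebra.adjoin F G, a * b = b * a := by
    intro a ha b hb
    refine Algebra.commute_of_mem_adjoin_of_forall_mem_commute hb fun g hg => ?_
    exact (Algebra.commute_of_mem_adjoin_of_forall_mem_commute ha fun g' hg' => hcomm g hg g' hg').symm
  let instR : CommRing (Algebra.adjoin F G) :=
    { (inferInstance : Ring (Algebra.adjoin F G)) with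
      mul_comm := fun a b => Subtype.ext (hall _ a.2 _ b.2) }
  letI := instR
  have hex : ∀ a ∈ Algebra.adjoin F G, ∃ b ∈ Algebra.adjoin F G, Adj B a b := by
    intro a ha
    induction ha using Algebra.adjoin_induction with
    | mem x hx => exact hadj x hx
    | algebraMap c =>
      refine ⟨algebraMap F _ c, Subalgebra.algebraMap_mem _ _, ?_, ?_⟩ <;>
        intro x y <;> simp [Module.algebraMap_end_apply]
    | add x y _ _ hx hy =>
      obtain ⟨x', hx1, hx2⟩ := hx
      obtain ⟨y', hy1, hy2⟩ := hy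
      exact ⟨x' + y', add_mem hx1 hy1, fun u v => by simp [hx2.1, hy2.1], fun u v => by simp [hx2.2, hy2.2]⟩
    | mul x y _ _ hx hy =>
      obtain ⟨x', hx1, hx2⟩ := hx
      obtain ⟨y', hy1, hy2⟩ := hy
      exact ⟨y' * x', mul_mem hy1 hx1, fun u v => by simp [hx2.1, hy2.1], fun u v => by simp [hx2.2, hy2.2]⟩
  choose f hf hfa using fun a : Algebra.adjoin F G => hex a.1 a.2
  let σ : Algebra.adjoin F G →+* Algebra.adjoin F G :=
    { toFun := fun a => ⟨f a, hf a⟩
      map_one' := Subtype.ext (adj_unique B hB (hfa 1) ⟨fun _ _ => rfl, fun _ _ => rfl⟩)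
      map_mul' := fun a b => Subtype.ext (by
        show f (a * b) = f a * f b
        rw [hall _ (hf a) _ (hf b)]
        refine adj_unique B hB (hfa _) ⟨fun u v => ?_, fun u v => ?_⟩
        · show B (a.1 (b.1 u)) v = B u (f b (f a v))
          rw [(hfa a).1, (hfa b).1]
        · show B (f b (f a u)) v = B u (a.1 (b.1 v))
          rw [(hfa b).2, (hfa a).2])
      map_zero' := Subtype.ext (adj_unique B hB (hfa 0) ⟨fun _ _ => by simp, fun _ _ => by simp⟩)
      map_add' := fun a b => Subtype.ext (adj_unique B hB (hfa _)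
        ⟨fun u v => by simp [(hfa a).1, (hfa b).1], fun u v => by simp [(hfa a).2, (hfa b).2]⟩) }
  have hσ : ∀ a, σ (σ a) = a := fun a =>
    Subtype.ext (adj_unique B hB (hfa (σ a)) ⟨(hfa a).2, (hfa a).1⟩)
  have hunit : ∀ a : Algebra.adjoin F G, IsUnit (a : Module.End F V) → IsUnit a := fun a ha => by
    have hsur : Function.Surjective (fun b : Algebra.adjoin F G => a * b) :=
      Finite.surjective_of_injective fun b c h => Subtype.ext (ha.mul_left_cancel (congrArg Subtype.val h :))
    obtain ⟨z, hz⟩ := hsur 1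
    exact isUnit_iff_exists_inv.2 ⟨z, hz⟩
  haveI : Finite (Algebra.adjoin F G) := Subtype.finite
  have hwu' : IsUnit (σ ⟨w, Algebra.subset_adjoin hw⟩ - ⟨w, Algebra.subset_adjoin hw⟩) := by
    apply hunit
    show IsUnit (f _ - w)
    rwa [adj_unique B hB (hfa ⟨w, Algebra.subset_adjoin hw⟩) hww]
  constructor
  · intro x hx x' hxx hx1
    obtain ⟨y, hy, hy'⟩ := CfsgLib.Conj.hilbert90_units σ hσ hwu' ⟨x, hx⟩ (Subtype.ext (by
      show x * f _ = 1
      rw [adj_unique B hB (hfa ⟨x, hx⟩) hxx, hx1]))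
    exact ⟨y, f y, hy.map (Algebra.adjoin F G).val, y.2, hfa y, congrArg Subtype.val hy'⟩
  · intro u hu huu huu'
    obtain ⟨y, hy, hy'⟩ := CfsgLib.Conj.exists_norm_eq σ hσ hwu' ⟨u, hu⟩ (hunit _ huu') (Subtype.ext (by
      show f _ = u
      rw [adj_unique B hB (hfa ⟨u, hu⟩) huu]))
    refine ⟨y, f y, hy.map (Algebra.adjoin F G).val, y.2, hfa y, ?_⟩
    exact (hall _ (hf y) _ y.2).trans (congrArg Subtype.val hy')

/-- An endomorphism commuting with a set commutes with the algebra it generates. -/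
theorem commute_adjoin {G : Set (Module.End F V)} {a y : Module.End F V} (h : ∀ g ∈ G, Commute a g)
    (hy : y ∈ Algebra.adjoin F G) : Commute a y :=
  Algebra.commute_of_mem_adjoin_of_forall_mem_commute hy h

variable (A : V ≃ₗ[F] V)

theorem isUnit_sub (hA : ∀ x, A (A x) = x → x = 0) :
    IsUnit (A.symm.toLinearMap - A.toLinearMap : Module.End F V) := by
  rw [LinearMap.isUnit_iff_ker_eq_bot, LinearMap.ker_eq_bot']
  intro x hx
  refine hA x ?_
  rw [LinearMap.sub_apply, sub_eq_zero] at hx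
  change A.symm x = A x at hx
  rw [← hx, LinearEquiv.apply_symm_apply]

theorem adj_self {B : LinearMap.BilinForm F V} (hB : ∀ x y, B (A x) (A y) = B x y) :
    Adj B A.toLinearMap A.symm.toLinearMap :=
  ⟨fun x y => by
    conv_lhs => rw [← A.apply_symm_apply y]
    exact hB _ _, fun x y => by
    show B (A.symm x) y = B x (A y)
    rw [← hB, A.apply_symm_apply]⟩

theorem symm_mem_adjoin (G : Set (Module.End F V)) (hG : A.toLinearMap ∈ G) :
    A.symm.toLinearMap ∈ Algebra.adjoin F G := by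
  haveI : Finite V := Module.finite_of_finite F
  haveI : Finite (V ≃ₗ[F] V) := Finite.of_injective (fun f => (f : V → V)) DFunLike.coe_injective
  obtain ⟨k, hk⟩ : ∃ k : ℕ, A ^ k = A⁻¹ :=
    mem_powers_iff_mem_zpowers.2 (Subgroup.inv_mem _ (Subgroup.mem_zpowers A))
  have : (A.toLinearMap : Module.End F V) ^ k = A.symm.toLinearMap := by
    refine LinearMap.ext fun x => ?_
    show _ = A.symm x
    rw [Module.End.pow_apply, ← show (A ^ k) x = A.symm x from by rw [hk]; rfl]
    clear hk
    induction k with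
    | zero => simp
    | succ k ih => rw [Function.iterate_succ_apply', ih, pow_succ']; rfl
  rw [← this]
  exact pow_mem (Algebra.subset_adjoin hG) k

/-- Two invariant forms of the same symmetry differ by an automorphism commuting with `A`. -/
theorem exists_commute_isometry (hA : ∀ x, A (A x) = x → x = 0) (ε : F) (B B₂ : LinearMap.BilinForm F V)
    (hsB : ∀ x y, B y x = ε * B x y) (hsB₂ : ∀ x y, B₂ y x = ε * B₂ x y)
    (hB : ∀ x, (∀ y, B x y = 0) → x = 0) (hB₂ : ∀ x, (∀ y, B₂ x y = 0) → x = 0)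
    (hAB : ∀ x y, B (A x) (A y) = B x y) (hAB₂ : ∀ x y, B₂ (A x) (A y) = B₂ x y) :
    ∃ h : V ≃ₗ[F] V, (∀ x, h (A x) = A (h x)) ∧ ∀ x y, B (h x) (h y) = B₂ x y := by
  obtain ⟨H, hH⟩ := exists_repr B B₂ hB
  have hHH : Adj B H H := by
    have h1 : ∀ x y, B (H x) y = B x (H y) := fun x y => by rw [hH, hsB (H y) x, hH, ← hsB₂]
    exact ⟨h1, h1⟩
  have hHA : H * A.toLinearMap = A.toLinearMap * H := by
    refine LinearMap.ext fun x => sub_eq_zero.1 (hB _ fun y => ?_)
    show B (H (A x) - A (H x)) y = 0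
    rw [map_sub, LinearMap.sub_apply, hH, ← A.apply_symm_apply y, hAB, hH, hAB₂, sub_self]
  have hHu : IsUnit H := by
    rw [LinearMap.isUnit_iff_ker_eq_bot, LinearMap.ker_eq_bot']
    exact fun x hx => hB₂ x fun y => by rw [← hH, hx, map_zero, LinearMap.zero_apply]
  let G : Set (Module.End F V) := {A.toLinearMap, H}
  have hcomm : ∀ a ∈ G, ∀ b ∈ G, a * b = b * a := by
    rintro a (rfl | rfl) b (rfl | rfl)
    exacts [rfl, hHA.symm, hHA, rfl]
  obtain ⟨y, y', hyu, hyG, hy, hyy⟩ := (adjoin_norm B hB G hcomm (by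
      rintro a (rfl | rfl)
      · exact ⟨_, symm_mem_adjoin A G (Or.inl rfl), adj_self A hAB⟩
      · exact ⟨_, Algebra.subset_adjoin (Or.inr rfl), hHH⟩)
    (Or.inl rfl : A.toLinearMap ∈ G) (adj_self A hAB) (isUnit_sub A hA)).2 H
    (Algebra.subset_adjoin (Or.inr rfl)) hHH hHu
  let h : V ≃ₗ[F] V := LinearEquiv.ofBijective y ((Module.End.isUnit_iff y).1 hyu)
  have hcA : Commute A.toLinearMap y := commute_adjoin (fun g hg => hcomm _ (Or.inl rfl) g hg) hyG
  refine ⟨h, fun x => (LinearMap.congr_fun hcA.eq x).symm, fun x z => ?_⟩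
  show B (y x) (y z) = _
  rw [hy.1, ← hH, hHH.1, ← hyy]
  rfl

/-- An invariant non-degenerate form gives one of either symmetry. -/
theorem exists_symm_form (hA : ∀ x, A (A x) = x → x = 0) (ε : F) (hε : ε * ε = 1)
    (S : LinearMap.BilinForm F V) (hS : ∀ x, (∀ y, S x y = 0) → x = 0)
    (hAS : ∀ x y, S (A x) (A y) = S x y) :
    ∃ B : LinearMap.BilinForm F V, (∀ x y, B y x = ε * B x y) ∧ (∀ x, (∀ y, B x y = 0) → x = 0) ∧
      ∀ x y, B (A x) (A y) = B x y := by
  obtain ⟨T, hT⟩ := exists_repr S S.flip hS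
  obtain ⟨T', hT'⟩ := exists_repr S.flip S (fun x hx => right_nondeg S hS x hx)
  have hT1 : ∀ x y, S (T x) y = S y x := hT
  have hT2 : ∀ x y, S y (T' x) = S x y := hT'
  have hTT : Adj S T T' := by
    have e1 : T * T' = 1 := LinearMap.ext fun x => sub_eq_zero.1 (hS _ fun y => by
      show S (T (T' x) - x) y = 0
      rw [map_sub, LinearMap.sub_apply, hT1, hT2, sub_self])
    exact ⟨fun x y => by rw [hT1, hT2], fun x y => by rw [← hT1 y, hT2]⟩
  have e1 : T * T' = 1 := LinearMap.ext fun x => sub_eq_zero.1 (hS _ fun y => by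
    show S (T (T' x) - x) y = 0
    rw [map_sub, LinearMap.sub_apply, hT1, hT2, sub_self])
  have hTA : T * A.toLinearMap = A.toLinearMap * T := by
    refine LinearMap.ext fun x => sub_eq_zero.1 (hS _ fun y => ?_)
    show S (T (A x) - A (T x)) y = 0
    rw [map_sub, LinearMap.sub_apply, hT1, ← A.apply_symm_apply y, hAS, hAS, hT1, sub_self]
  have hT'A : T' * A.toLinearMap = A.toLinearMap * T' := by
    have e2 : T' * T = 1 := mul_eq_one_comm.1 e1
    calc T' * A.toLinearMap = T' * (A.toLinearMap * (T * T')) := by rw [e1, mul_one]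
      _ = T' * (T * A.toLinearMap) * T' := by rw [hTA]; simp [mul_assoc]
      _ = A.toLinearMap * T' := by rw [← mul_assoc T', e2, one_mul]
  have e2 : T' * T = 1 := mul_eq_one_comm.1 e1
  let G : Set (Module.End F V) := {A.toLinearMap, T, T'}
  have hcomm : ∀ a ∈ G, ∀ b ∈ G, a * b = b * a := by
    rintro a (rfl | rfl | rfl) b (rfl | rfl | rfl)
    exacts [rfl, hTA.symm, hT'A.symm, hTA, rfl, e1.trans e2.symm, hT'A,
      e2.trans e1.symm, rfl]
  have hTG : T ∈ Algebra.adjoin F G := Algebra.subset_adjoin (show T ∈ G from Or.inr (Or.inl rfl))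
  have hεT : ε • T ∈ Algebra.adjoin F G := Subalgebra.smul_mem _ hTG ε
  obtain ⟨y, y', hyu, hyG, hy, hyy⟩ := (adjoin_norm S hS G hcomm (by
      rintro a (rfl | rfl | rfl)
      · exact ⟨_, symm_mem_adjoin A G (Or.inl rfl), adj_self A hAS⟩
      · exact ⟨_, Algebra.subset_adjoin (Or.inr (Or.inr rfl)), hTT⟩
      · exact ⟨_, Algebra.subset_adjoin (Or.inr (Or.inl rfl)), hTT.2, hTT.1⟩)
    (Or.inl rfl : A.toLinearMap ∈ G) (adj_self A hAS) (isUnit_sub A hA)).1 (ε • T) hεT (ε • T')
    ⟨fun x z => by simp [hTT.1], fun x z => by simp [hTT.2]⟩ (by rw [smul_mul_smul_comm, hε, one_smul, e1])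
  have hcA : Commute A.toLinearMap y := commute_adjoin (fun g hg => hcomm _ (Or.inl rfl) g hg) hyG
  refine ⟨S ∘ₗ y, fun x z => ?_, fun x hx => ?_, fun x z => ?_⟩
  · show S (y z) x = ε * S (y x) z
    have hc : Commute T y' := by
      obtain ⟨b, hb, hb'⟩ : ∃ b ∈ Algebra.adjoin F G, b = y' := ⟨T' * (ε • y), mul_mem (Algebra.subset_adjoin (Or.inr (Or.inr rfl))) (Subalgebra.smul_mem _ hyG ε), by
        rw [← hyy, smul_mul_assoc, smul_smul, hε, one_smul, ← mul_assoc, mul_eq_one_comm.1 e1, one_mul]⟩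
      exact hb' ▸ commute_adjoin (fun g hg => hcomm _ (Or.inr (Or.inl rfl)) g hg) hb
    rw [← hT1 x, ← hy.2, show y' (T x) = T (y' x) from (LinearMap.congr_fun hc.eq x).symm]
    conv_rhs => rw [← hyy]
    rw [smul_mul_assoc, LinearMap.smul_apply, map_smul, LinearMap.smul_apply, smul_eq_mul, ← mul_assoc, hε, one_mul]
    rfl
  · exact (LinearMap.ker_eq_bot'.1 ((LinearMap.isUnit_iff_ker_eq_bot y).1 hyu)) x (hS _ hx)
  · show S (y (A x)) (A z) = S (y x) z
    rw [show y (A x) = A (y x) from (LinearMap.congr_fun hcA.eq x).symm, hAS]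

/-- A skew invariant form is alternating. -/
theorem isAlt_of_skew (hA : ∀ x, A x = x → x = 0) (B : LinearMap.BilinForm F V)
    (hsB : ∀ x y, B y x = -B x y) (hAB : ∀ x y, B (A x) (A y) = B x y) : B.IsAlt := by
  intro v
  have hsur : Function.Surjective (A.toLinearMap - LinearMap.id : Module.End F V) :=
    LinearMap.injective_iff_surjective.1 ((injective_iff_map_eq_zero _).2 fun x hx =>
      hA x (sub_eq_zero.1 hx))
  obtain ⟨w, rfl⟩ := hsur v
  show B (A w - w) (A w - w) = 0
  have h1 := hsB (A w) w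
  have h2 := hsB w w
  simp only [map_sub, LinearMap.sub_apply, hAB]
  linear_combination h2 - h1

end CfsgLib.RootCount
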