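import Mathlib
import Cfsg.Agent.Lib.RootCount.Adjoint
import Cfsg.Agent.Lib.Forms.Classify

/-!
The decomposition of a space into the fixed space of an element of odd order prime to the characteristic and
its complement, and the alternating forms invariant under such an element.
-/

set_option autoImplicit false

namespace CfsgLib.RootCount

open Module
open scoped Matrix

variable {F : Type*} [Field F] [Finite F] {V W : Type*} [AddCommGroup V] [Module F V]
  [FiniteDimensional F V] [AddCommGroup W] [Module F W] [FiniteDimensional F W]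

/-- A symplectic basis. -/
theorem alt_basis (D : LinearMap.BilinForm F V) (hD : D.IsAlt) (hDn : ∀ x, (∀ y, D x y = 0) → x = 0) :
    ∃ (m : ℕ) (b : Basis (Fin m ⊕ Fin m) F V),
      ∀ i j, D (b i) (b j) = Matrix.fromBlocks 0 (1 : Matrix (Fin m) (Fin m) F) (-1) 0 i j := by
  obtain ⟨m, k, b, hd, hspan, h1, h2, h3, h4⟩ :=
    CfsgLib.Forms.exists_symplectic_family D hD (finrank F V) ⊤ (finrank_top _ _)
  have hcard : finrank F V = Fintype.card ((Fin m ⊕ Fin m) ⊕ Fin k) := by simp [hd]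
  let bb : Basis ((Fin m ⊕ Fin m) ⊕ Fin k) F V := basisOfTopLeSpanOfCardEqFinrank b hspan.ge hcard.symm
  have hk : k = 0 := by
    by_contra hk
    have h0 := hDn _ fun y => h4 ⟨0, Nat.pos_of_ne_zero hk⟩ y Submodule.mem_top
    exact bb.ne_zero (.inr ⟨0, Nat.pos_of_ne_zero hk⟩) (by simpa [bb] using h0)
  subst hk
  refine ⟨m, bb.reindex (Equiv.sumEmpty _ _), ?_⟩
  intro i j
  simp only [Basis.reindex_apply, bb, coe_basisOfTopLeSpanOfCardEqFinrank, Equiv.sumEmpty_symm_apply]
  rcases i with i | i <;> rcases j with j | j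
  · simp [h2]
  · simp [h1, Matrix.one_apply]
  · rw [← LinearMap.IsAlt.neg hD, h1]; simp [Matrix.one_apply, eq_comm, apply_ite]
  · simp [h3]

/-- Non-degenerate alternating spaces of the same dimension are isometric, and the dimension is even. -/
theorem alt_equiv (B : LinearMap.BilinForm F V) (C : LinearMap.BilinForm F W) (hB : B.IsAlt) (hC : C.IsAlt)
    (hBn : ∀ x, (∀ y, B x y = 0) → x = 0) (hCn : ∀ x, (∀ y, C x y = 0) → x = 0)
    (hdim : finrank F V = finrank F W) :
    ∃ f : V ≃ₗ[F] W, ∀ x y, C (f x) (f y) = B x y := by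
  obtain ⟨m, b, hb⟩ := alt_basis B hB hBn
  obtain ⟨m', c, hc⟩ := alt_basis C hC hCn
  have hmm : m' = m := by
    have h1 := finrank_eq_card_basis b
    have h2 := finrank_eq_card_basis c
    simp at h1 h2; omega
  subst hmm
  refine ⟨b.equiv c (Equiv.refl _), fun x y => ?_⟩
  have : C.comp (b.equiv c (Equiv.refl _)).toLinearMap (b.equiv c (Equiv.refl _)).toLinearMap = B :=
    LinearMap.BilinForm.ext_basis b fun i j => by simp [hb, hc]
  exact LinearMap.congr_fun (LinearMap.congr_fun this x) y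

variable {r : ℕ}

/-- The fixed space of an element of order dividing an odd `r` prime to the characteristic, with its complement. -/
theorem exists_decomp (A : V ≃ₗ[F] V) (hAr : ∀ x, (⇑A)^[r] x = x) (hr : Odd r) (hrF : (r : F) ≠ 0) :
    ∃ V₀ V₁ : Submodule F V, IsCompl V₀ V₁ ∧ (∀ x, x ∈ V₀ ↔ A x = x) ∧ (∀ x ∈ V₁, A x ∈ V₁) ∧
      (∀ x ∈ V₁, A (A x) = x → x = 0) ∧
      (∀ T : Module.End F V, (∀ x, T (A x) = A (T x)) → ∀ x ∈ V₁, T x ∈ V₁) ∧
      ∀ B : LinearMap.BilinForm F V, (∀ x y, B (A x) (A y) = B x y) →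
        ∀ x ∈ V₀, ∀ y ∈ V₁, B x y = 0 ∧ B y x = 0 := by
  let a : Module.End F V := A.toLinearMap
  let e : Module.End F V := (r : F)⁻¹ • ∑ j ∈ Finset.range r, a ^ j
  have haj : ∀ (j : ℕ) x, (a ^ j) x = (⇑A)^[j] x := fun j x => Module.End.pow_apply _ _ _
  have hfix : ∀ x, A x = x → e x = x := fun x hx => by
    simp only [e, LinearMap.smul_apply, LinearMap.sum_apply, haj]
    rw [Finset.sum_congr rfl fun j _ => Function.iterate_fixed hx j, Finset.sum_const, Finset.card_range,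
      ← Nat.cast_smul_eq_nsmul F, inv_smul_smul₀ hrF]
  have hAe : ∀ x, A (e x) = e x := fun x => by
    show a (e x) = e x
    simp only [e, LinearMap.smul_apply, LinearMap.sum_apply, map_smul, map_sum, haj]
    congr 1
    have : ∀ j, a ((⇑A)^[j] x) = (⇑A)^[j + 1] x := fun j => (Function.iterate_succ_apply' _ j x).symm
    simp only [this]
    have h1 := Finset.sum_range_succ (fun j => (⇑A)^[j] x) r
    have h2 := Finset.sum_range_succ' (fun j => (⇑A)^[j] x) r
    rw [h1, hAr] at h2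
    simpa using h2.symm
  have hcomm : ∀ T : Module.End F V, (∀ x, T (A x) = A (T x)) → ∀ x, T (e x) = e (T x) := fun T hT x => by
    have : ∀ j : ℕ, T ((⇑A)^[j] x) = (⇑A)^[j] (T x) := fun j => by
      induction j with
      | zero => rfl
      | succ j ih => rw [Function.iterate_succ_apply', Function.iterate_succ_apply', hT, ih]
    simp only [e, LinearMap.smul_apply, LinearMap.sum_apply, map_smul, map_sum, haj, this]
  refine ⟨LinearMap.range e, LinearMap.ker e, ?_, ?_, ?_, ?_, ?_, ?_⟩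
  · exact (LinearMap.IsProj.isCompl (p := LinearMap.range e) (f := e)
      ⟨fun x => ⟨x, rfl⟩, by rintro _ ⟨y, rfl⟩; exact hfix _ (hAe y)⟩)
  · exact fun x => ⟨by rintro ⟨y, rfl⟩; exact hAe y, fun hx => ⟨x, hfix x hx⟩⟩
  · intro x hx
    rw [LinearMap.mem_ker] at hx ⊢
    have h1 := hcomm A.toLinearMap (fun x => rfl) x
    rw [hx, map_zero] at h1
    exact h1.symm
  · intro x hx h2
    have hA1 : A x = x := by
      have h3 : ∀ j, (⇑A)^[2 * j] x = x := fun j => by
        rw [Function.iterate_mul]; exact Function.iterate_fixed h2 j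
      obtain ⟨j, rfl⟩ := hr
      have := hAr x
      rwa [add_comm, Function.iterate_add_apply, h3, Function.iterate_one] at this
    rw [LinearMap.mem_ker, hfix x hA1] at hx
    exact hx
  · intro T hT x hx
    rw [LinearMap.mem_ker] at hx ⊢
    rw [← hcomm T hT, hx, map_zero]
  · intro B hB x hx y hy
    obtain ⟨x', rfl⟩ := hx
    rw [LinearMap.mem_ker] at hy
    have key : ∀ j : ℕ, B (e x') ((⇑A)^[j] y) = B (e x') y ∧ B ((⇑A)^[j] y) (e x') = B y (e x') := fun j => by
      induction j with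
      | zero => exact ⟨rfl, rfl⟩
      | succ j ih =>
        rw [Function.iterate_succ_apply']
        exact ⟨by conv_lhs => rw [← hAe x']
                  rw [hB, ih.1], by conv_lhs => rw [← hAe x']
                                    rw [hB, ih.2]⟩
    constructor
    · calc B (e x') y = B (e x') (e y) := by
            simp only [e, LinearMap.smul_apply, LinearMap.sum_apply, map_smul, map_sum, haj] at key ⊢
            rw [Finset.sum_congr rfl fun j _ => (key j).1, Finset.sum_const, Finset.card_range,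
              ← Nat.cast_smul_eq_nsmul F, inv_smul_smul₀ hrF]
        _ = 0 := by rw [hy, map_zero]
    · calc B y (e x') = B (e y) (e x') := by
            conv_rhs => rw [show e y = (r : F)⁻¹ • ∑ j ∈ Finset.range r, (a ^ j) y by simp [e, LinearMap.sum_apply]]
            simp only [haj, map_smul, LinearMap.smul_apply, map_sum, LinearMap.sum_apply]
            rw [Finset.sum_congr rfl fun j _ => (key j).2, Finset.sum_const, Finset.card_range,
              ← Nat.cast_smul_eq_nsmul F, inv_smul_smul₀ hrF]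
        _ = 0 := by rw [hy, map_zero]; rfl

/-- Restriction of a non-degenerate form to a piece of an orthogonal decomposition. -/
theorem nondeg_restrict {U U' : Submodule F V} (h : IsCompl U U') (B : LinearMap.BilinForm F V)
    (hB : ∀ x, (∀ y, B x y = 0) → x = 0) (horth : ∀ x ∈ U, ∀ y ∈ U', B x y = 0) :
    ∀ x : U, (∀ y : U, B.restrict U x y = 0) → x = 0 := fun x hx => by
  refine Subtype.ext (hB _ fun z => ?_)
  obtain ⟨y, hy, y', hy', rfl⟩ := Submodule.mem_sup.1 (h.sup_eq_top ▸ Submodule.mem_top : z ∈ U ⊔ U')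
  have h1 : B x y = 0 := hx ⟨y, hy⟩
  rw [map_add, h1, horth x x.2 y' hy', add_zero]

variable (A : V ≃ₗ[F] V) (hAr : ∀ x, (⇑A)^[r] x = x) (hr : Odd r) (hrF : (r : F) ≠ 0)

include hAr hr hrF

/-- Two invariant non-degenerate alternating forms differ by an automorphism commuting with `A`. -/
theorem exists_commute_alt (B B₂ : LinearMap.BilinForm F V) (hB : B.IsAlt) (hB₂ : B₂.IsAlt)
    (hBn : ∀ x, (∀ y, B x y = 0) → x = 0) (hB₂n : ∀ x, (∀ y, B₂ x y = 0) → x = 0)
    (hAB : ∀ x y, B (A x) (A y) = B x y) (hAB₂ : ∀ x y, B₂ (A x) (A y) = B₂ x y) :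
    ∃ h : V ≃ₗ[F] V, (∀ x, h (A x) = A (h x)) ∧ ∀ x y, B (h x) (h y) = B₂ x y := by
  obtain ⟨V₀, V₁, hc, h0, hA1, hfpf, -, horth⟩ := exists_decomp A hAr hr hrF
  obtain ⟨h₀, hh₀⟩ := alt_equiv (B₂.restrict V₀) (B.restrict V₀) (fun x => hB₂ x.1) (fun x => hB x.1)
    (nondeg_restrict hc B₂ hB₂n fun x hx y hy => (horth B₂ hAB₂ x hx y hy).1)
    (nondeg_restrict hc B hBn fun x hx y hy => (horth B hAB x hx y hy).1) rfl
  let A₁ : V₁ ≃ₗ[F] V₁ := LinearEquiv.ofInjectiveEndo (A.toLinearMap.restrict hA1)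
    (fun x y h => Subtype.ext (A.injective (congrArg Subtype.val h :)))
  have hA₁ : ∀ x : V₁, (A₁ x : V) = A x := fun x => rfl
  obtain ⟨h₁, hh₁c, hh₁⟩ := exists_commute_isometry A₁
    (fun x hx => Subtype.ext (hfpf x x.2 (congrArg Subtype.val hx :))) (-1) (B.restrict V₁) (B₂.restrict V₁)
    (fun x y => by show B y x = -1 * B x y; rw [← LinearMap.IsAlt.neg hB]; ring)
    (fun x y => by show B₂ y x = -1 * B₂ x y; rw [← LinearMap.IsAlt.neg hB₂]; ring)
    (nondeg_restrict hc.symm B hBn fun x hx y hy => (horth B hAB y hy x hx).2)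
    (nondeg_restrict hc.symm B₂ hB₂n fun x hx y hy => (horth B₂ hAB₂ y hy x hx).2)
    (fun x y => hAB x y) (fun x y => hAB₂ x y)
  let P := Submodule.prodEquivOfIsCompl V₀ V₁ hc
  let h : V ≃ₗ[F] V := P.symm ≪≫ₗ (h₀.prodCongr h₁) ≪≫ₗ P
  have hh : ∀ (x : V₀) (y : V₁), h ((x : V) + y) = (h₀ x : V) + h₁ y := fun x y => by
    have hP : (x : V) + y = P (x, y) := rfl
    simp only [h, LinearEquiv.trans_apply, hP, LinearEquiv.symm_apply_apply]
    rfl
  refine ⟨h, fun z => ?_, fun z w => ?_⟩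
  · obtain ⟨⟨x, y⟩, rfl⟩ := P.surjective z
    show h (A ((x : V) + y)) = A (h ((x : V) + y))
    rw [map_add A, (h0 x).1 x.2, ← hA₁, hh, hh, map_add A, hh₁c, hA₁, (h0 _).1 (h₀ x).2]
  · obtain ⟨⟨x, y⟩, rfl⟩ := P.surjective z
    obtain ⟨⟨x', y'⟩, rfl⟩ := P.surjective w
    show B (h ((x : V) + y)) (h ((x' : V) + y')) = B₂ ((x : V) + y) ((x' : V) + y')
    rw [hh, hh]
    have e0 : B (h₀ x : V) (h₀ x') = B₂ x x' := hh₀ x x'
    have e1 : B (h₁ y : V) (h₁ y') = B₂ y y' := hh₁ y y'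
    simp only [map_add, LinearMap.add_apply, e0, e1, (horth B hAB _ (h₀ x).2 _ (h₁ y').2).1,
      (horth B hAB _ (h₀ x').2 _ (h₁ y).2).2, (horth B₂ hAB₂ _ x.2 _ y'.2).1, (horth B₂ hAB₂ _ x'.2 _ y.2).2]

/-- An invariant non-degenerate form on an even-dimensional space gives an alternating one. -/
theorem exists_alt_form (S : LinearMap.BilinForm F V) (hS : ∀ x, (∀ y, S x y = 0) → x = 0)
    (hAS : ∀ x y, S (A x) (A y) = S x y) (heven : Even (finrank F V)) :
    ∃ B : LinearMap.BilinForm F V, B.IsAlt ∧ (∀ x, (∀ y, B x y = 0) → x = 0) ∧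
      ∀ x y, B (A x) (A y) = B x y := by
  obtain ⟨V₀, V₁, hc, h0, hA1, hfpf, -, horth⟩ := exists_decomp A hAr hr hrF
  let A₁ : V₁ ≃ₗ[F] V₁ := LinearEquiv.ofInjectiveEndo (A.toLinearMap.restrict hA1)
    (fun x y h => Subtype.ext (A.injective (congrArg Subtype.val h :)))
  have hA₁ : ∀ x : V₁, (A₁ x : V) = A x := fun x => rfl
  have hf1 : ∀ x : V₁, A₁ (A₁ x) = x → x = 0 := fun x hx => Subtype.ext (hfpf x x.2 (congrArg Subtype.val hx :))
  obtain ⟨B₁, hB₁s, hB₁n, hB₁A⟩ := exists_symm_form A₁ hf1 (-1) (by ring) (S.restrict V₁)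
    (nondeg_restrict hc.symm S hS fun x hx y hy => (horth S hAS y hy x hx).2) (fun x y => hAS x y)
  have hB₁ : B₁.IsAlt := isAlt_of_skew A₁ (fun x hx => hf1 x (by rw [hx, hx])) B₁
    (fun x y => by rw [hB₁s]; ring) hB₁A
  -- the dimension of the moved part is even
  have hev₁ : Even (finrank F V₁) := by
    obtain ⟨m, k, b, hd, hspan, -, -, -, h4⟩ := CfsgLib.Forms.exists_symplectic_family B₁ hB₁ (finrank F V₁) ⊤ (finrank_top _ _)
    rcases Nat.eq_zero_or_pos k with hk | hk
    · exact ⟨m, by omega⟩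
    · exfalso
      let bb : Basis ((Fin m ⊕ Fin m) ⊕ Fin k) F V₁ := basisOfTopLeSpanOfCardEqFinrank b hspan.ge (by simp [hd])
      exact bb.ne_zero (.inr ⟨0, hk⟩) (by simpa [bb] using hB₁n _ fun y => h4 ⟨0, hk⟩ y Submodule.mem_top)
  obtain ⟨k, hk⟩ : Even (finrank F V₀) := by
    have := Submodule.finrank_add_eq_of_isCompl hc
    rw [← this, Nat.even_add] at heven
    exact heven.2 hev₁
  let J : LinearMap.BilinForm F (Fin k ⊕ Fin k → F) := Matrix.toBilin' (Matrix.J (Fin k) F)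
  let f₀ : V₀ ≃ₗ[F] (Fin k ⊕ Fin k → F) := LinearEquiv.ofFinrankEq _ _ (by simp [hk])
  let B₀ : LinearMap.BilinForm F V₀ := J.comp f₀.toLinearMap f₀.toLinearMap
  let P := Submodule.prodEquivOfIsCompl V₀ V₁ hc
  let p₀ : V →ₗ[F] V₀ := (LinearMap.fst F V₀ V₁).comp P.symm.toLinearMap
  let p₁ : V →ₗ[F] V₁ := (LinearMap.snd F V₀ V₁).comp P.symm.toLinearMap
  have hp : ∀ (x : V₀) (y : V₁), p₀ ((x : V) + y) = x ∧ p₁ ((x : V) + y) = y := fun x y => by
    have hP : (x : V) + y = P (x, y) := rfl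
    simp [p₀, p₁, hP]
  refine ⟨B₀.comp p₀ p₀ + B₁.comp p₁ p₁, fun v => ?_, fun z hz => ?_, fun z w => ?_⟩
  · have hJ : ∀ u, J u u = 0 := fun u => by
      simp [J, Matrix.toBilin'_apply', Matrix.J, dotProduct, Matrix.mulVec, Fintype.sum_sum_type, Matrix.one_apply, mul_comm]
    simp [B₀, hJ, hB₁ (p₁ v)]
  · obtain ⟨⟨x, y⟩, rfl⟩ := P.surjective z
    have hy : y = 0 := hB₁n y fun w => by
      have := hz ((0 : V₀) + w)
      change (B₀.comp p₀ p₀ + B₁.comp p₁ p₁) ((x : V) + y) _ = 0 at this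
      simp only [LinearMap.add_apply, LinearMap.BilinForm.comp_apply] at this
      rw [(hp x y).1, (hp x y).2, (hp 0 w).1, (hp 0 w).2, map_zero, zero_add] at this
      exact this
    have hx : f₀ x = 0 := by
      have hJn : IsUnit (Matrix.J (Fin k) F) := (Matrix.isUnit_iff_isUnit_det _).mpr (Matrix.isUnit_det_J (Fin k) F)
      refine Matrix.vecMul_injective_iff_isUnit.mpr hJn (?_ : f₀ x ᵥ* Matrix.J (Fin k) F = (0 : Fin k ⊕ Fin k → F) ᵥ* Matrix.J (Fin k) F)
      rw [Matrix.zero_vecMul]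
      funext i
      have := hz ((f₀.symm (Pi.single i 1) : V) + (0 : V₁))
      change (B₀.comp p₀ p₀ + B₁.comp p₁ p₁) ((x : V) + y) _ = 0 at this
      simp only [LinearMap.add_apply, LinearMap.BilinForm.comp_apply] at this
      rw [(hp x y).1, (hp x y).2, (hp _ 0).1, (hp _ 0).2, map_zero, add_zero] at this
      simp only [B₀, LinearMap.BilinForm.comp_apply, LinearEquiv.coe_coe, LinearEquiv.apply_symm_apply, J,
        Matrix.toBilin'_apply', Matrix.dotProduct_mulVec, dotProduct_single_one] at this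
      exact this
    rw [hy, f₀.map_eq_zero_iff.1 hx]
    exact map_zero P
  · obtain ⟨⟨x, y⟩, rfl⟩ := P.surjective z
    obtain ⟨⟨x', y'⟩, rfl⟩ := P.surjective w
    show (B₀.comp p₀ p₀ + B₁.comp p₁ p₁) (A ((x : V) + y)) (A ((x' : V) + y')) =
      (B₀.comp p₀ p₀ + B₁.comp p₁ p₁) ((x : V) + y) ((x' : V) + y')
    rw [map_add A, map_add A, (h0 x).1 x.2, (h0 x').1 x'.2, ← hA₁, ← hA₁]
    simp only [LinearMap.add_apply, LinearMap.BilinForm.comp_apply, (hp x _).1, (hp x _).2, (hp x' _).1, (hp x' _).2, hB₁A]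

end CfsgLib.RootCount
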