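import Mathlib
import Cfsg.Agent.Lib.RootCount.GL
import Cfsg.Agent.Lib.RootCount.Adjoint
import Cfsg.Agent.Lib.RootCount.QuadType
import Cfsg.Agent.Lib.Classical.Quad.Std

/-!
Quadratic forms invariant under an automorphism of odd prime order without fixed vectors.
-/

set_option autoImplicit false

namespace CfsgLib.RootCount

open Module QuadraticMap Polynomial
open CfsgLib.Classical.Quad (NDPolar)

variable {F : Type*} [Field F] [Fintype F] {V : Type*} [AddCommGroup V] [Module F V]
  [FiniteDimensional F V] (A : V ≃ₗ[F] V)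

omit [Fintype F] in
theorem surjective_sub_id (hA : ∀ x, A x = x → x = 0) : ∀ v, ∃ w, A w - w = v := by
  have h : Function.Surjective (A.toLinearMap - LinearMap.id : Module.End F V) :=
    LinearMap.injective_iff_surjective.1 ((injective_iff_map_eq_zero _).2 fun x hx =>
      hA x (by simpa [sub_eq_zero] using hx))
  exact h

omit [Fintype F] in
/-- Invariant quadratic forms with the same polar agree. -/
theorem quad_ext (hA : ∀ x, A x = x → x = 0) (Q Q' : QuadraticForm F V) (hQ : ∀ x, Q (A x) = Q x)
    (hQ' : ∀ x, Q' (A x) = Q' x) (hpol : ∀ x y, polar Q x y = polar Q' x y) : ∀ x, Q x = Q' x := by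
  intro v
  obtain ⟨w, rfl⟩ := surjective_sub_id A hA v
  have h1 := hpol w (A w - w)
  simp only [polar, add_sub_cancel, hQ, hQ'] at h1
  linear_combination -h1

omit [Fintype F] in
/-- An invariant symmetric form is the polar of an invariant quadratic form. -/
theorem exists_quad (hA : ∀ x, A x = x → x = 0) (B : LinearMap.BilinForm F V)
    (hs : ∀ x y, B y x = B x y) (hAB : ∀ x y, B (A x) (A y) = B x y) :
    ∃ Q : QuadraticForm F V, (∀ x, Q (A x) = Q x) ∧ ∀ x y, polar Q x y = B x y := by
  let D : V →ₗ[F] V := LinearMap.id - A.toLinearMap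
  have hD : Function.Injective D := (injective_iff_map_eq_zero _).2 fun x hx => hA x (sub_eq_zero.1 hx).symm
  let D' := LinearEquiv.ofInjectiveEndo D hD
  let C : V →ₗ[F] V := D'.symm.toLinearMap
  have hCD : ∀ x, C (D x) = x := fun x => D'.symm_apply_apply x
  refine ⟨LinearMap.BilinMap.toQuadraticMap (B ∘ₗ C), fun x => ?_, fun x y => ?_⟩
  · simp only [LinearMap.BilinMap.toQuadraticMap_apply, LinearMap.comp_apply]
    have hCA : C (A x) = A (C x) := by
      obtain ⟨u, rfl⟩ : ∃ u, D u = x := ⟨C x, D'.apply_symm_apply x⟩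
      have : A (D u) = D (A u) := by simp [D]
      rw [this, hCD, hCD]
    rw [hCA, hAB]
  · obtain ⟨u, rfl⟩ : ∃ u, D u = x := ⟨C x, D'.apply_symm_apply x⟩
    obtain ⟨w, rfl⟩ : ∃ w, D w = y := ⟨C y, D'.apply_symm_apply y⟩
    rw [LinearMap.BilinMap.polar_toQuadraticMap]
    simp only [LinearMap.comp_apply]
    rw [hCD, hCD]
    simp only [D, LinearMap.sub_apply, LinearMap.id_apply, LinearEquiv.coe_coe, map_sub, hAB]
    rw [hs u w, hs (A u) w]
    ring

variable {r : ℕ} [Fact r.Prime]

omit [Fintype F] in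
/-- A pair of coprime polynomials, adjoint to each other at `A` and annihilating, forces plus type. -/
theorem isPlus_of_factor (hA : ∀ x, A x = x → x = 0) (Q : QuadraticForm F V) (hnd : NDPolar Q)
    (hQ : ∀ x, Q (A x) = Q x) (f h : F[X]) (hco : IsCoprime f h)
    (hann : aeval (A.toLinearMap : Module.End F V) (f * h) = 0)
    (hadj : Adj (polarBilin Q) (aeval (A.toLinearMap : Module.End F V) f) (aeval (A.toLinearMap : Module.End F V) h)) :
    IsPlus Q := by
  set a : Module.End F V := A.toLinearMap
  have key : ∀ p p' : F[X], IsCoprime p p' → Adj (polarBilin Q) (aeval a p) (aeval a p') →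
      (∀ x ∈ LinearMap.ker (aeval a p), Q x = 0) ∧
        2 * finrank F (LinearMap.ker (aeval a p)) ≤ finrank F V := by
    intro p p' hp hpadj
    set U := LinearMap.ker (aeval a p) with hU
    have hpol : ∀ u ∈ U, ∀ v ∈ U, polar Q u v = 0 := by
      intro u hu v hv
      obtain ⟨s, t, hst⟩ := hp
      have h1 := LinearMap.congr_fun (congrArg (aeval a) hst) u
      rw [map_add, map_mul, map_mul, map_one, LinearMap.add_apply, Module.End.mul_apply, Module.End.mul_apply,
        LinearMap.mem_ker.1 hu, map_zero, zero_add, Module.End.one_apply,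
        ← Module.End.mul_apply, ← map_mul, mul_comm, map_mul, Module.End.mul_apply] at h1
      rw [← h1, ← polarBilin_apply_apply, hpadj.2, LinearMap.mem_ker.1 hv, map_zero]
    have hmap : ∀ u ∈ U, A u ∈ U := fun u hu => by
      rw [hU, LinearMap.mem_ker] at hu ⊢
      show aeval a p (a u) = 0
      have hc : aeval a p * a = a * aeval a p := by
        have := congrArg (aeval a) (mul_comm p X)
        simpa using this
      rw [← Module.End.mul_apply, hc, Module.End.mul_apply, hu, map_zero]
    refine ⟨fun v hv => ?_, ?_⟩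
    · have hsur : Function.Surjective ((a - 1).restrict (p := U) (q := U)
          (fun u hu => U.sub_mem (hmap u hu) hu)) :=
        LinearMap.injective_iff_surjective.1 ((injective_iff_map_eq_zero _).2 fun x hx =>
          Subtype.ext (hA x (sub_eq_zero.1 (congrArg Subtype.val hx :))))
      obtain ⟨⟨w, hw⟩, hwv⟩ := hsur ⟨v, hv⟩
      have hwv' : A w - w = v := congrArg Subtype.val hwv
      have h1 := hQ w
      rw [← sub_add_cancel (A w) w, hwv', QuadraticMap.map_add (⇑Q), hpol v hv w hw] at h1
      linear_combination h1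
    · have hle : U ≤ LinearMap.BilinForm.orthogonal (polarBilin Q) U := fun x hx d hd => hpol d hd x hx
      have := Submodule.finrank_mono hle
      rw [CfsgLib.Orth.finrank_polar_orthogonal hnd] at this
      omega
  obtain ⟨h1, h2⟩ := key f h hco hadj
  obtain ⟨-, h3⟩ := key h f hco.symm ⟨hadj.2, hadj.1⟩
  have hsup := Polynomial.sup_ker_aeval_eq_ker_aeval_mul_of_coprime a hco
  rw [hann, LinearMap.ker_zero] at hsup
  have h4 := Submodule.finrank_add_le_finrank_add_finrank (LinearMap.ker (aeval a f)) (LinearMap.ker (aeval a h))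
  rw [hsup, finrank_top] at h4
  exact ⟨_, h1, by omega⟩

variable [NeZero (r : F)]

/-- When the order of the field size is odd, the roots of unity split into two halves exchanged by inversion. -/
theorem exists_halves (ho : Odd (orderOf (Fintype.card F : ZMod r))) (hr2 : r ≠ 2) :
    ∃ f : F[X], IsCoprime f (f.comp (X ^ (r - 1))) ∧
      (X ^ r - 1 : F[X]) ∣ (X - 1) * (f * f.comp (X ^ (r - 1))) := by
  classical
  have hne : (Fintype.card F : ZMod r) ≠ 0 := fun h => by
    rw [h, orderOf_zero] at ho; simp at ho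
  let u : (ZMod r)ˣ := Units.mk0 _ hne
  have hu : (u : ZMod r) = (Fintype.card F : ZMod r) := rfl
  let H := Subgroup.zpowers u
  let H2 := Subgroup.zpowers (-u)
  have hou : Odd (orderOf u) := by rw [← orderOf_units]; exact ho
  have hnegH : (-1 : (ZMod r)ˣ) ∉ H := by
    intro h
    obtain ⟨k, hk⟩ := mem_powers_iff_mem_zpowers.2 h
    have hk' : u ^ k = -1 := hk
    have h1 : (-1 : (ZMod r)ˣ) ^ orderOf u = 1 := by
      rw [← hk', ← pow_mul, mul_comm, pow_mul, pow_orderOf_eq_one, one_pow]
    rw [hou.neg_one_pow] at h1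
    have : Fact (2 < r) := ⟨lt_of_le_of_ne (Fact.out : r.Prime).two_le (Ne.symm hr2)⟩
    exact ZMod.neg_one_ne_one (congrArg Units.val h1)
  have hneg : (-1 : (ZMod r)ˣ) ∈ H2 := ⟨orderOf u, by
    show (-u) ^ (orderOf u : ℤ) = -1
    rw [zpow_natCast, hou.neg_pow, pow_orderOf_eq_one]⟩
  have huH2 : u ∈ H2 := by
    have := H2.mul_mem hneg (Subgroup.mem_zpowers (-u))
    simpa using this
  have hdich : ∀ x ∈ H2, (x ∈ H ↔ -x ∉ H) := by
    intro x hx
    constructor
    · intro h1 h2
      refine hnegH ?_
      have := H.mul_mem h2 (H.inv_mem h1)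
      simpa [neg_mul] using this
    · intro h2
      obtain ⟨k, hk⟩ := mem_powers_iff_mem_zpowers.2 hx
      have hk' : (-u) ^ k = x := hk
      rcases Nat.even_or_odd k with he | hodd
      · exact ⟨k, by show u ^ (k : ℤ) = x; rw [zpow_natCast, ← hk', he.neg_pow]⟩
      · exact absurd ⟨(k : ℤ), by show u ^ (k : ℤ) = -x; rw [zpow_natCast, ← hk', hodd.neg_pow, neg_neg]⟩ h2
  let rep : (ZMod r)ˣ → (ZMod r)ˣ := fun x => x * (Quotient.out (QuotientGroup.mk x : (ZMod r)ˣ ⧸ H2))⁻¹
  have hrep : ∀ x, rep x ∈ H2 := fun x => by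
    have h := QuotientGroup.eq.1 (Quotient.out_eq (QuotientGroup.mk x : (ZMod r)ˣ ⧸ H2))
    simpa [rep, mul_comm] using h
  have hrepmul : ∀ g ∈ H2, ∀ x, rep (g * x) = g * rep x := fun g hg x => by
    have : (QuotientGroup.mk (g * x) : (ZMod r)ˣ ⧸ H2) = QuotientGroup.mk x :=
      QuotientGroup.eq.2 (by simpa [mul_comm g x, mul_assoc] using H2.inv_mem hg)
    simp only [rep, this, mul_assoc]
  let S : Finset (ZMod r)ˣ := Finset.univ.filter fun x => rep x ∈ H
  have hSneg : ∀ x, x ∈ S ↔ -x ∉ S := fun x => by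
    simp only [S, Finset.mem_filter, Finset.mem_univ, true_and]
    rw [show -x = (-1 : (ZMod r)ˣ) * x by simp, hrepmul _ hneg, neg_one_mul]
    exact hdich _ (hrep x)
  have hSq : ∀ x, u * x ∈ S ↔ x ∈ S := fun x => by
    simp only [S, Finset.mem_filter, Finset.mem_univ, true_and, hrepmul _ huH2]
    exact H.mul_mem_cancel_left (Subgroup.mem_zpowers u)
  let φ : Clo F →+* Clo F := (FiniteField.frobeniusAlgHom F (Clo F)).toRingHom
  let P : (Clo F)[X] := ∏ x ∈ S, (X - C (root F r (x : ZMod r)))
  have hφ : ∀ x, φ x = x ^ Fintype.card F := fun x => rfl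
  have hPφ : P.map φ = P := by
    simp only [P, Polynomial.map_prod, Polynomial.map_sub, map_X, map_C]
    refine Finset.prod_equiv (Equiv.mulLeft u) (fun x => (hSq x).symm) fun x _ => ?_
    rw [hφ, Equiv.coe_mulLeft, Units.val_mul, hu, root_natCast_mul]
  obtain ⟨f, hf, -, -⟩ := lifts_and_natDegree_eq_and_monic
    ((lifts_iff_coeff_lifts P).mpr fun k => mem_range_of_pow_card F (by rw [← hφ, ← coeff_map, hPφ]))
    (monic_prod_of_monic _ _ fun j _ => monic_X_sub_C _)
  have hcomp : (f.comp (X ^ (r - 1))).map (algebraMap F (Clo F)) = P.comp (X ^ (r - 1)) := by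
    rw [Polynomial.map_comp, hf, Polynomial.map_pow, map_X]
  have hpowroot : ∀ x : (ZMod r)ˣ, root F r (x : ZMod r) ^ (r - 1) = root F r ((-x : (ZMod r)ˣ) : ZMod r) := fun x => by
    rw [Units.val_neg, root_neg]
    refine eq_inv_of_mul_eq_one_left ?_
    rw [← pow_succ, Nat.sub_add_cancel (Fact.out : r.Prime).one_le, root_pow]
  have heval : ∀ y, (P.comp (X ^ (r - 1))).IsRoot y ↔ ∃ z ∈ S, y ^ (r - 1) = root F r (z : ZMod r) := fun y => by
    simp [P, Finset.prod_eq_zero_iff, sub_eq_zero, IsRoot, eval_comp, eval_prod]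
  refine ⟨f, (isCoprime_map (algebraMap F (Clo F))).1 ?_, (map_dvd_map' (algebraMap F (Clo F))).1 ?_⟩
  · rw [hcomp, hf]
    refine IsCoprime.prod_left fun x hx => (irreducible_X_sub_C _).coprime_iff_not_dvd.2 ?_
    rw [dvd_iff_isRoot, heval]
    rintro ⟨z, hz, hzz⟩
    rw [hpowroot] at hzz
    rw [← Units.ext (root_injective F r hzz)] at hz
    exact (hSneg x).1 hx hz
  · rw [Polynomial.map_mul, Polynomial.map_mul, hf, hcomp, Polynomial.map_sub, Polynomial.map_sub,
      Polynomial.map_pow, map_X, Polynomial.map_one]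
    rw [X_pow_sub_one_eq_prod (Fact.out : r.Prime).pos (zeta_spec F r)]
    refine Finset.prod_dvd_of_coprime (fun a _ b _ hab => ?_) fun y hy => ?_
    · exact isCoprime_X_sub_C_of_isUnit_sub (sub_ne_zero.2 hab).isUnit
    · rw [dvd_iff_isRoot]
      obtain ⟨j, rfl⟩ := exists_root_eq F r ((mem_nthRootsFinset (Fact.out : r.Prime).pos _).1 hy)
      show Polynomial.eval _ _ = 0
      rw [eval_mul, eval_mul]
      rcases eq_or_ne j 0 with rfl | hj
      · simp [root_zero]
      · obtain ⟨x, rfl⟩ := (Ne.isUnit hj)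
        by_cases hx : x ∈ S
        · have h0 : P.eval (root F r (x : ZMod r)) = 0 := by
            simp only [P, eval_prod]
            exact Finset.prod_eq_zero hx (by simp)
          rw [h0, zero_mul, mul_zero]
        · have hx' : -x ∈ S := by by_contra hh; exact hx ((hSneg x).2 hh)
          have h0 : (P.comp (X ^ (r - 1))).eval (root F r (x : ZMod r)) = 0 :=
            (heval _).2 ⟨-x, hx', hpowroot x⟩
          rw [h0, mul_zero, mul_zero]

/-- Fixed-point-free elements of order `r` exist only in plus type when the order of `q` is odd. -/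
theorem isPlus_of_odd_order (hr2 : r ≠ 2) (ho : Odd (orderOf (Fintype.card F : ZMod r)))
    (hA : ∀ x, A x = x → x = 0) (hAr : ∀ x, (⇑A)^[r] x = x)
    (Q : QuadraticForm F V) (hnd : NDPolar Q) (hQ : ∀ x, Q (A x) = Q x) : IsPlus Q := by
  obtain ⟨f, hco, hdvd⟩ := exists_halves (F := F) (r := r) ho hr2
  set a : Module.End F V := A.toLinearMap
  have har : a ^ r = 1 := LinearMap.ext fun x => by rw [Module.End.pow_apply]; exact hAr x
  have h1 : aeval a ((X : F[X]) - 1) * aeval a (f * f.comp (X ^ (r - 1))) = 0 := by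
    obtain ⟨c, hc⟩ := hdvd
    rw [← map_mul, hc, map_mul, map_sub, map_pow, aeval_X, map_one, har, sub_self, zero_mul]
  have hann : aeval a (f * f.comp (X ^ (r - 1))) = 0 := LinearMap.ext fun x => by
    have h2 := LinearMap.congr_fun h1 x
    rw [Module.End.mul_apply, map_sub, aeval_X, map_one, LinearMap.sub_apply, Module.End.one_apply,
      LinearMap.zero_apply, sub_eq_zero] at h2
    exact hA _ h2
  refine isPlus_of_factor A hA Q hnd hQ f _ hco hann ?_
  have hB : ∀ x y, polarBilin Q (A x) (A y) = polarBilin Q x y := fun x y => by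
    simp only [polarBilin_apply_apply, polar, ← map_add, hQ]
  have hsymm : a ^ (r - 1) = A.symm.toLinearMap := LinearMap.ext fun x => A.injective (by
    show a ((a ^ (r - 1)) x) = A (A.symm x)
    rw [← Module.End.mul_apply, ← pow_succ', Nat.sub_add_cancel (Fact.out : r.Prime).one_le, har,
      Module.End.one_apply, LinearEquiv.apply_symm_apply])
  rw [aeval_comp, map_pow, aeval_X, hsymm]
  clear hco hdvd h1 hann
  induction f using Polynomial.induction_on' with
  | add p q hp hq =>
    simp only [map_add]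
    exact ⟨fun x y => by simp [hp.1, hq.1, polar_add_left, polar_add_right],
      fun x y => by simp [hp.2, hq.2, polar_add_left, polar_add_right]⟩
  | monomial k c =>
    simp only [aeval_monomial]
    have hk : Adj (polarBilin Q) (a ^ k) ((A.symm.toLinearMap : Module.End F V) ^ k) := by
      induction k with
      | zero => exact ⟨fun _ _ => rfl, fun _ _ => rfl⟩
      | succ k ih =>
        rw [pow_succ' (A.symm.toLinearMap : Module.End F V), pow_succ a]
        exact ⟨fun x y => by
            rw [Module.End.mul_apply, ih.1]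
            exact (adj_self A hB).1 x _, fun x y => by
            rw [Module.End.mul_apply]
            refine ((adj_self A hB).2 _ y).trans ?_
            rw [ih.2, Module.End.mul_apply]⟩
    exact ⟨fun x y => by
        rw [Module.End.mul_apply, Module.End.mul_apply, Module.algebraMap_end_apply, Module.algebraMap_end_apply,
          map_smul (polarBilin Q), LinearMap.smul_apply, map_smul ((polarBilin Q) x), hk.1],
      fun x y => by
        rw [Module.End.mul_apply, Module.End.mul_apply, Module.algebraMap_end_apply, Module.algebraMap_end_apply,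
          map_smul (polarBilin Q), LinearMap.smul_apply, map_smul ((polarBilin Q) x), hk.2]⟩

omit [NeZero (r : F)] in
/-- The number of singular vectors is congruent to one modulo the order of a fixed-point-free isometry. -/
theorem card_singular_modEq (hA : ∀ x, A x = x → x = 0) (hAr : ∀ x, (⇑A)^[r] x = x)
    (Q : QuadraticForm F V) (hQ : ∀ x, Q (A x) = Q x) :
    (Nat.card {v : V // Q v = 0} : ZMod r) = 1 := by
  classical
  haveI : Finite V := Module.finite_of_finite F
  haveI := Fintype.ofFinite V
  let T : Function.End {v : V // Q v = 0} := fun v => ⟨A v, by rw [hQ]; exact v.2⟩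
  have hiter : ∀ j v, ((T^[j]) v).1 = (⇑A)^[j] v.1 := fun j => by
    induction j with
    | zero => intro v; rfl
    | succ j ih => intro v; rw [Function.iterate_succ_apply', Function.iterate_succ_apply', ← ih]
  have hT : T ^ r ^ 1 = 1 := funext fun v => Subtype.ext (by
    rw [pow_one]
    have hco : ∀ (j : ℕ), (T ^ j : Function.End {v : V // Q v = 0}) = T^[j] := fun j => by
      induction j with
      | zero => rfl
      | succ j ih => rw [pow_succ, ih]; rfl
    rw [hco, hiter, hAr]; rfl)
  have hfix : Fintype.card (Function.fixedPoints T) = 1 := by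
    rw [Fintype.card_eq_one_iff]
    refine ⟨⟨⟨0, QuadraticMap.map_zero Q⟩, Subtype.ext (map_zero A)⟩, fun x => ?_⟩
    exact Subtype.ext (Subtype.ext (hA _ (congrArg Subtype.val x.2 :)))
  have h := Equiv.Perm.card_fixedPoints_modEq (p := r) (n := 1) hT
  rw [hfix] at h
  rw [Nat.card_eq_fintype_card, (ZMod.natCast_eq_natCast_iff _ _ _).2 h, Nat.cast_one]

/-- The type of a space with a fixed-point-free element of order `r` when `q` has even order mod `r`. -/
theorem type_of_even_order (hr2 : r ≠ 2) {i' b : ℕ} (hi : orderOf (Fintype.card F : ZMod r) = 2 * i')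
    (hi0 : i' ≠ 0) {m : ℕ} (hm : 1 ≤ m) (hdim : finrank F V = 2 * m) (hb : m = i' * b)
    (hA : ∀ x, A x = x → x = 0) (hAr : ∀ x, (⇑A)^[r] x = x)
    (Q : QuadraticForm F V) (hnd : NDPolar Q) (hQ : ∀ x, Q (A x) = Q x) : IsPlus Q ↔ Even b := by
  classical
  obtain ⟨a, c, hac⟩ := exists_aniso (F := F)
  have hN := card_singular_modEq A hA hAr Q hQ
  set x : ZMod r := (Fintype.card F : ZMod r)
  have hhalf : x ^ i' = -1 := by
    have h1 : x ^ i' * x ^ i' = 1 := by rw [← pow_add, ← two_mul, ← hi, pow_orderOf_eq_one]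
    rcases mul_self_eq_one_iff.1 h1 with h | h
    · have := Nat.le_of_dvd (Nat.pos_of_ne_zero hi0) (hi ▸ orderOf_dvd_of_pow_eq_one h)
      omega
    · exact h
  have hxm : x ^ m = (-1) ^ b := by rw [hb, pow_mul, hhalf]
  have hx1 : x ≠ 1 := fun h => by rw [h, orderOf_one] at hi; omega
  have hx0 : x ≠ 0 := fun h => by rw [h, orderOf_zero] at hi; omega
  have : Fact (2 < r) := ⟨lt_of_le_of_ne (Fact.out : r.Prime).two_le (Ne.symm hr2)⟩
  have h2 : (2 : ZMod r) ≠ 0 := fun h => ZMod.neg_one_ne_one (n := r) (by linear_combination -h)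
  obtain ⟨k, rfl⟩ : ∃ k, m = k + 1 := ⟨m - 1, by omega⟩
  have hq : 1 ≤ Fintype.card F := Fintype.card_pos
  rcases classify_even Q hnd hdim hac with ⟨hplus, E, hE⟩ | ⟨hminus, k', hk, E, hE⟩
  · refine iff_of_true hplus ?_
    by_contra hodd
    rw [(Nat.not_even_iff_odd.1 hodd).neg_one_pow] at hxm
    rw [← Nat.card_congr (E.toEquiv.subtypeEquiv (p := fun v => CfsgLib.OrthCrit.plusForm (k + 1) F v = 0)
        (fun v => by rw [LinearEquiv.coe_toEquiv, hE])),
      Nat.card_congr ((CfsgLib.Classical.Quad.plusEquiv (k + 1) F).toEquiv.subtypeEquiv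
        (q := fun v => CfsgLib.Classical.Quad.hypForm (k + 1) (CfsgLib.Classical.Quad.zeroKernel F) v = 0)
        (fun v => by rw [LinearEquiv.coe_toEquiv, CfsgLib.Classical.Quad.plusEquiv_spec]; rfl)),
      CfsgLib.Classical.Quad.card_level_hypForm, CfsgLib.Classical.Quad.card_zeros_zeroKernel] at hN
    simp only [Nat.card_eq_fintype_card, Fintype.card_fun, Fintype.card_fin, Nat.add_sub_cancel, pow_zero, mul_one] at hN
    rw [Nat.cast_add, Nat.cast_mul, Nat.cast_sub (Nat.one_le_pow _ _ hq), Nat.cast_pow, Nat.cast_pow, Nat.cast_one, hxm] at hN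
    have : 2 * (x ^ k + 1) = 0 := by linear_combination -hN
    have h3 : x ^ k = -1 := eq_neg_of_add_eq_zero_left ((mul_eq_zero.1 this).resolve_left h2)
    rw [pow_succ, h3] at hxm
    exact hx1 (by linear_combination -hxm)
  · refine iff_of_false hminus fun heven => ?_
    obtain rfl : k' = k := by omega
    rw [heven.neg_one_pow] at hxm
    rw [← Nat.card_congr (E.toEquiv.subtypeEquiv (p := fun v => CfsgLib.OrthCrit.minusForm k' F a c v = 0)
        (fun v => by rw [LinearEquiv.coe_toEquiv, hE])),
      Nat.card_congr ((CfsgLib.Classical.Quad.minusEquiv k' F).toEquiv.subtypeEquiv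
        (q := fun v => CfsgLib.Classical.Quad.hypForm k' (CfsgLib.Classical.Quad.binForm a c) v = 0)
        (fun v => by rw [LinearEquiv.coe_toEquiv, CfsgLib.Classical.Quad.minusEquiv_spec]; rfl)),
      CfsgLib.Classical.Quad.card_level_hypForm, CfsgLib.Classical.Quad.card_zeros_binForm hac] at hN
    simp only [Nat.card_eq_fintype_card, Fintype.card_fun, Fintype.card_fin, mul_one] at hN
    rcases Nat.eq_zero_or_pos k' with rfl | hk'
    · exact hx1 (by simpa using hxm)
    obtain ⟨j, rfl⟩ : ∃ j, k' = j + 1 := ⟨k' - 1, by omega⟩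
    rw [Nat.add_sub_cancel, Nat.cast_add, Nat.cast_mul, Nat.cast_mul, Nat.cast_sub (Nat.one_le_pow _ _ hq),
      Nat.cast_pow, Nat.cast_pow, Nat.cast_pow, Nat.cast_one] at hN
    have : 2 * (x ^ (j + 1) - 1) = 0 := by
      linear_combination hN - (x ^ (j + 1) - 1) * hxm
    have h3 : x ^ (j + 1) = 1 := sub_eq_zero.1 ((mul_eq_zero.1 this).resolve_left h2)
    rw [pow_succ, h3, one_mul] at hxm
    exact hx1 hxm

end CfsgLib.RootCount
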