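import Mathlib
import Cfsg.Agent.Lib.RootCount.Classes
import Cfsg.Agent.Lib.RootCount.Decomp

/-!
Elements of odd prime order in symplectic groups.
-/

set_option autoImplicit false

namespace CfsgLib.RootCount

open Matrix

variable {F : Type*} [Field F] [Fintype F] {r : ℕ} [Fact r.Prime] [NeZero (r : F)] {m : ℕ}

omit [Fintype F] [NeZero (r : F)] [Fact r.Prime] in
theorem toBilin'_mulVec {ι : Type*} [Fintype ι] [DecidableEq ι] (S g h : Matrix ι ι F) (u v : ι → F) :
    Matrix.toBilin' S (g *ᵥ u) (h *ᵥ v) = Matrix.toBilin' (gᵀ * S * h) u v := by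
  rw [Matrix.toBilin'_apply', Matrix.toBilin'_apply', mul_assoc, ← Matrix.mulVec_mulVec,
    Matrix.dotProduct_mulVec u gᵀ, Matrix.vecMul_transpose, Matrix.mulVec_mulVec]

omit [Fintype F] [NeZero (r : F)] [Fact r.Prime] in
theorem toBilin'_nondeg {ι : Type*} [Fintype ι] [DecidableEq ι] (S : Matrix ι ι F) (hS : IsUnit S)
    (x : ι → F) (hx : ∀ y, Matrix.toBilin' S x y = 0) : x = 0 := by
  refine Matrix.vecMul_injective_iff_isUnit.mpr hS (?_ : x ᵥ* S = (0 : ι → F) ᵥ* S)
  rw [Matrix.zero_vecMul]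
  funext i
  have := hx (Pi.single i 1)
  rw [Matrix.toBilin'_apply', Matrix.dotProduct_mulVec, dotProduct_single_one] at this
  exact this

omit [Fintype F] [NeZero (r : F)] [Fact r.Prime] in
/-- Membership in the symplectic group through the bilinear form. -/
theorem mem_symplectic_iff_form (g : Matrix (Fin m ⊕ Fin m) (Fin m ⊕ Fin m) F) :
    g ∈ Matrix.symplecticGroup (Fin m) F ↔ ∀ u v,
      Matrix.toBilin' (Matrix.J (Fin m) F) (g *ᵥ u) (g *ᵥ v) = Matrix.toBilin' (Matrix.J (Fin m) F) u v := by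
  rw [SymplecticGroup.mem_iff']
  simp only [toBilin'_mulVec]
  exact ⟨fun h u v => by rw [h], fun h => Matrix.toBilin'.injective
    (LinearMap.ext fun u => LinearMap.ext fun v => h u v)⟩

/-- The inclusion in the general linear group. -/
noncomputable def spHom (m : ℕ) (F : Type*) [Field F] :
    ↥(Matrix.symplecticGroup (Fin m) F) →* GL (Fin m ⊕ Fin m) F :=
  (Matrix.symplecticGroup (Fin m) F).subtype.toHomUnits

theorem card_classes_sp (hr2 : r ≠ 2) :
    Nat.card {C : ConjClasses ↥(Matrix.symplecticGroup (Fin m) F) //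
        ∃ g : Matrix.symplecticGroup (Fin m) F, ConjClasses.mk g = C ∧ orderOf g = r} =
      Nat.card {μ : ZMod r → ℕ // (∀ x, μ ((Fintype.card F : ZMod r) * x) = μ x) ∧ (∀ x, μ (-x) = μ x) ∧
        ∑ x, μ x = 2 * m ∧ μ 0 ≠ 2 * m} := by
  classical
  have hrodd : Odd r := (Fact.out : r.Prime).odd_of_ne_two hr2
  have hrF : (r : F) ≠ 0 := NeZero.ne _
  let J := Matrix.J (Fin m) F
  have hJu : IsUnit J := (Matrix.isUnit_iff_isUnit_det _).mpr (Matrix.isUnit_det_J (Fin m) F)
  obtain ⟨Ju, hJu'⟩ := hJu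
  let B : LinearMap.BilinForm F (Fin m ⊕ Fin m → F) := Matrix.toBilin' J
  have hBn : ∀ x, (∀ y, B x y = 0) → x = 0 := toBilin'_nondeg J ⟨Ju, hJu'⟩
  have hBalt : B.IsAlt := fun u => by
    simp [B, J, Matrix.toBilin'_apply', Matrix.J, dotProduct, Matrix.mulVec, Fintype.sum_sum_type, Matrix.one_apply, mul_comm]
  have hjinj : Function.Injective (spHom m F) := fun a b h => Subtype.ext (congrArg Units.val h :)
  have hiter : ∀ (g : GL (Fin m ⊕ Fin m) F), g ^ r = 1 → ∀ x,
      (⇑(Matrix.GeneralLinearGroup.toLin g).toLinearEquiv)^[r] x = x := by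
    intro g hg x
    have h1 : ∀ j : ℕ, (⇑(Matrix.GeneralLinearGroup.toLin g).toLinearEquiv)^[j] x =
        ((g : Matrix (Fin m ⊕ Fin m) (Fin m ⊕ Fin m) F) ^ j) *ᵥ x := fun j => by
      induction j with
      | zero => simp
      | succ j ih => rw [Function.iterate_succ_apply', ih, pow_succ', ← Matrix.mulVec_mulVec]; simp
    rw [h1, ← Units.val_pow_eq_pow_val, hg, Units.val_one, Matrix.one_mulVec]
  have happ : ∀ (g : GL (Fin m ⊕ Fin m) F) x,
      (Matrix.GeneralLinearGroup.toLin g).toLinearEquiv x = (g : Matrix (Fin m ⊕ Fin m) (Fin m ⊕ Fin m) F) *ᵥ x :=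
    fun g x => by simp
  rw [card_classes F r (spHom m F) hjinj ?_ (fun μ => ∀ x, μ (-x) = μ x) ?_]
  · simp only [Fintype.card_sum, Fintype.card_fin, two_mul]
  · intro a b ha hb hab
    obtain ⟨g, hg⟩ := isConj_iff.1 hab
    let T := (Matrix.GeneralLinearGroup.toLin g).toLinearEquiv
    let A := (Matrix.GeneralLinearGroup.toLin (spHom m F a)).toLinearEquiv
    let Bt := (Matrix.GeneralLinearGroup.toLin (spHom m F b)).toLinearEquiv
    have hga : ∀ x, T (A x) = Bt (T x) := fun x => by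
      simp only [T, A, Bt, happ, Matrix.mulVec_mulVec, ← Units.val_mul]
      rw [mul_inv_eq_iff_eq_mul.1 hg]
    have hAB : ∀ x y, B (A x) (A y) = B x y := fun x y => by
      simp only [A, happ]; exact (mem_symplectic_iff_form _).1 a.2 x y
    have hBB : ∀ x y, B (Bt x) (Bt y) = B x y := fun x y => by
      simp only [Bt, happ]; exact (mem_symplectic_iff_form _).1 b.2 x y
    let B₂ := B.comp T.toLinearMap T.toLinearMap
    obtain ⟨h, hh, hhB⟩ := exists_commute_alt A (hiter _ (by rw [← map_pow, ha, map_one])) hrodd hrF B B₂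
      hBalt (fun x => hBalt _) hBn (fun x hx => T.map_eq_zero_iff.1 (hBn _ fun y => by
        have := hx (T.symm y); simpa [B₂] using this)) hAB
      (fun x y => by show B (T (A x)) (T (A y)) = B (T x) (T y); rw [hga, hga, hBB])
    let U : (Fin m ⊕ Fin m → F) ≃ₗ[F] (Fin m ⊕ Fin m → F) := h.symm ≪≫ₗ T
    let M := LinearMap.toMatrix' U.toLinearMap
    have hM : ∀ x, M *ᵥ x = U x := fun x => by simp [M, LinearMap.toMatrix'_mulVec]
    have hMS : M ∈ Matrix.symplecticGroup (Fin m) F := (mem_symplectic_iff_form _).2 fun u v => by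
      show B (M *ᵥ u) (M *ᵥ v) = B u v
      rw [hM, hM]
      show B₂ (h.symm u) (h.symm v) = B u v
      rw [← hhB, h.apply_symm_apply, h.apply_symm_apply]
    refine isConj_iff.2 ⟨⟨M, hMS⟩, mul_inv_eq_iff_eq_mul.2 (Subtype.ext (Matrix.ext_iff_mulVec.2 fun x => ?_))⟩
    show (M * a.1) *ᵥ x = (b.1 * M) *ᵥ x
    rw [← Matrix.mulVec_mulVec, ← Matrix.mulVec_mulVec, hM, hM]
    have hA' : a.1 *ᵥ x = A x := (happ (spHom m F a) x).symm
    rw [hA', show ∀ y, b.1 *ᵥ y = Bt y from fun y => (happ (spHom m F b) y).symm]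
    show T (h.symm (A x)) = Bt (T (h.symm x))
    rw [← hga]
    congr 1
    rw [LinearEquiv.symm_apply_eq, hh, h.apply_symm_apply]
  · intro g hg
    let gt : GL (Fin m ⊕ Fin m) F :=
      ⟨(g : Matrix (Fin m ⊕ Fin m) (Fin m ⊕ Fin m) F)ᵀ, ((g⁻¹ : GL (Fin m ⊕ Fin m) F) : Matrix (Fin m ⊕ Fin m) (Fin m ⊕ Fin m) F)ᵀ,
        by rw [← Matrix.transpose_mul, ← Units.val_mul, inv_mul_cancel, Units.val_one, Matrix.transpose_one],
        by rw [← Matrix.transpose_mul, ← Units.val_mul, mul_inv_cancel, Units.val_one, Matrix.transpose_one]⟩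
    have hgt : gt ^ r = 1 := Units.ext (by
      show ((g : Matrix (Fin m ⊕ Fin m) (Fin m ⊕ Fin m) F)ᵀ) ^ r = 1
      rw [← Matrix.transpose_pow, ← Units.val_pow_eq_pow_val, hg, Units.val_one, Matrix.transpose_one])
    constructor
    · rintro ⟨a, ha⟩ x
      obtain ⟨c, hc⟩ := isConj_iff.1 ha
      have hm : mult F r (g : Matrix (Fin m ⊕ Fin m) (Fin m ⊕ Fin m) F) = mult F r a.1 := by
        rw [← hc, Units.val_mul, Units.val_mul, mult_units_conj]; rfl
      have har : (spHom m F a) ^ r = 1 := by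
        rw [show spHom m F a = c⁻¹ * g * c by rw [← hc]; group]
        have hh := conj_pow (a := c⁻¹) (b := g) (i := r)
        rw [inv_inv] at hh
        rw [hh, hg, mul_one, inv_mul_cancel]
      rw [hm]
      have h1 : a.1ᵀ * J * a.1 = J := SymplecticGroup.mem_iff'.1 a.2
      have h2 : ((Ju : GL (Fin m ⊕ Fin m) F) : Matrix (Fin m ⊕ Fin m) (Fin m ⊕ Fin m) F) * ((spHom m F a)⁻¹ : GL (Fin m ⊕ Fin m) F).val * ((Ju⁻¹ : GL (Fin m ⊕ Fin m) F) : Matrix (Fin m ⊕ Fin m) (Fin m ⊕ Fin m) F) = a.1ᵀ := by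
        rw [Units.mul_inv_eq_iff_eq_mul, Units.mul_inv_eq_iff_eq_mul, hJu']
        exact h1.symm
      show mult F r ((spHom m F a : GL (Fin m ⊕ Fin m) F) : Matrix (Fin m ⊕ Fin m) (Fin m ⊕ Fin m) F) (-x) =
        mult F r a.1 x
      rw [← mult_inv F r har, ← mult_units_conj F r Ju, h2, mult_transpose]
    · intro hP
      have hgm : mult F r (g : Matrix (Fin m ⊕ Fin m) (Fin m ⊕ Fin m) F) =
          mult F r ((gt⁻¹ : GL (Fin m ⊕ Fin m) F) : Matrix (Fin m ⊕ Fin m) (Fin m ⊕ Fin m) F) := by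
        funext x
        rw [mult_inv F r hgt, show (gt : Matrix (Fin m ⊕ Fin m) (Fin m ⊕ Fin m) F) = (g : Matrix (Fin m ⊕ Fin m) (Fin m ⊕ Fin m) F)ᵀ from rfl,
          mult_transpose, hP]
      obtain ⟨S, hS⟩ := isConj_iff.1 (isConj_of_mult_eq F r hg (by rw [inv_pow, hgt, inv_one]) hgm)
      let A := (Matrix.GeneralLinearGroup.toLin g).toLinearEquiv
      have hSg : (g : Matrix (Fin m ⊕ Fin m) (Fin m ⊕ Fin m) F)ᵀ * (S : Matrix (Fin m ⊕ Fin m) (Fin m ⊕ Fin m) F) * g = S := by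
        have : gt * S * g = S := by rw [mul_assoc, mul_inv_eq_iff_eq_mul.1 hS, ← mul_assoc, mul_inv_cancel, one_mul]
        exact congrArg Units.val this
      obtain ⟨B', hB'alt, hB'n, hAB'⟩ := exists_alt_form A (hiter g hg) hrodd hrF
        (Matrix.toBilin' (S : Matrix (Fin m ⊕ Fin m) (Fin m ⊕ Fin m) F)) (toBilin'_nondeg _ S.isUnit)
        (fun x y => by simp only [A, happ, toBilin'_mulVec, hSg])
        ⟨m, by simp⟩
      obtain ⟨f, hf⟩ := alt_equiv B' B hB'alt hBalt hB'n hBn rfl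
      let U := f.symm ≪≫ₗ A ≪≫ₗ f
      let M := LinearMap.toMatrix' U.toLinearMap
      have hM : ∀ x, M *ᵥ x = U x := fun x => by simp [M, LinearMap.toMatrix'_mulVec]
      have hMS : M ∈ Matrix.symplecticGroup (Fin m) F := (mem_symplectic_iff_form _).2 fun u v => by
        show B (M *ᵥ u) (M *ᵥ v) = B u v
        rw [hM, hM]
        show B (f (A (f.symm u))) (f (A (f.symm v))) = B u v
        rw [hf, hAB', ← hf, f.apply_symm_apply, f.apply_symm_apply]
      refine ⟨⟨M, hMS⟩, isConj_iff.2 ⟨Matrix.GeneralLinearGroup.toLin.symm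
        (LinearMap.GeneralLinearGroup.ofLinearEquiv f.symm), ?_⟩⟩
      rw [mul_inv_eq_iff_eq_mul]
      refine Units.ext (Matrix.ext_iff_mulVec.2 fun x => ?_)
      rw [Units.val_mul, Units.val_mul, ← Matrix.mulVec_mulVec, ← Matrix.mulVec_mulVec]
      have hfm : ∀ y, ((Matrix.GeneralLinearGroup.toLin.symm
          (LinearMap.GeneralLinearGroup.ofLinearEquiv f.symm) : GL (Fin m ⊕ Fin m) F) : Matrix (Fin m ⊕ Fin m) (Fin m ⊕ Fin m) F) *ᵥ y = f.symm y := fun y => by
        rw [← happ, MulEquiv.apply_symm_apply]; rfl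
      rw [hfm, hfm, show ((spHom m F ⟨M, hMS⟩ : GL (Fin m ⊕ Fin m) F) : Matrix (Fin m ⊕ Fin m) (Fin m ⊕ Fin m) F) = M from rfl,
        hM, ← happ]
      show f.symm (f (A (f.symm x))) = A (f.symm x)
      rw [f.symm_apply_apply]

/-- Invariance under `u` and `-1` as invariance under one generator. -/
theorem inv_q_neg_iff (hr2 : r ≠ 2) (u : (ZMod r)ˣ) (μ : ZMod r → ℕ) :
    ((∀ x, μ ((u : ZMod r) * x) = μ x) ∧ ∀ x, μ (-x) = μ x) ↔
      Inv (Subgroup.zpowers (if Odd (orderOf (u : ZMod r)) then -u else u)) μ := by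
  split_ifs with ho
  · rw [inv_zpowers_iff r]
    constructor
    · rintro ⟨h1, h2⟩ x
      rw [Units.val_neg, neg_mul, h2, h1]
    · intro h
      have hpow : ∀ (j : ℕ) x, μ ((-u : (ZMod r)ˣ).val ^ j * x) = μ x := fun j => by
        induction j with
        | zero => simp
        | succ j ih => intro x; rw [pow_succ, mul_assoc, ih, h]
      have hneg : ∀ x, μ (-x) = μ x := fun x => by
        have := hpow (orderOf (u : ZMod r)) x
        rwa [Units.val_neg, ho.neg_pow, pow_orderOf_eq_one, neg_one_mul] at this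
      refine ⟨fun x => ?_, hneg⟩
      rw [← hneg, ← neg_mul, ← Units.val_neg, h]
  · rw [inv_zpowers_iff r]
    refine ⟨fun h => h.1, fun h => ⟨h, fun x => ?_⟩⟩
    obtain ⟨k, hk⟩ := Nat.not_odd_iff_even.1 ho
    have hk0 : k ≠ 0 := fun h0 => by
      have : 0 < orderOf (u : ZMod r) := by rw [orderOf_units]; exact orderOf_pos u
      omega
    have hpow : ∀ (j : ℕ) x, μ ((u : ZMod r) ^ j * x) = μ x := fun j => by
      induction j with
      | zero => simp
      | succ j ih => intro x; rw [pow_succ, mul_assoc, ih, h]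
    have hh : (u : ZMod r) ^ k = -1 := by
      have h1 : (u : ZMod r) ^ k * (u : ZMod r) ^ k = 1 := by rw [← pow_add, ← hk, pow_orderOf_eq_one]
      rcases mul_self_eq_one_iff.1 h1 with h2 | h2
      · have := Nat.le_of_dvd (Nat.pos_of_ne_zero hk0) (orderOf_dvd_of_pow_eq_one h2)
        omega
      · exact h2
    have := hpow k x
    rwa [hh, neg_one_mul] at this

end CfsgLib.RootCount
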