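import Mathlib
import Cfsg.Agent.Lib.RootCount.Classes
import Cfsg.Agent.Lib.RootCount.Decomp
import Cfsg.Agent.Lib.RootCount.QuadInv
import Cfsg.Agent.Lib.RootCount.Symp
import Cfsg.Agent.Lib.OrthCrit.Plus
import Cfsg.Prelude.Def_Classical

/-!
Elements of odd prime order in orthogonal groups: conjugacy and realisation.
-/

set_option autoImplicit false

namespace CfsgLib.RootCount

open Module QuadraticMap
open CfsgLib.Classical.Quad (NDPolar)
open scoped Matrix

variable {F : Type*} [Field F] [Fintype F]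

section Space

variable {V : Type*} [AddCommGroup V] [Module F V] [FiniteDimensional F V]

omit [Fintype F] in
theorem isPlus_congr {W : Type*} [AddCommGroup W] [Module F W] [FiniteDimensional F W]
    (Q : QuadraticForm F V) (Q' : QuadraticForm F W) (E : V ≃ₗ[F] W) (hE : ∀ x, Q' (E x) = Q x)
    (h : IsPlus Q) : IsPlus Q' := by
  obtain ⟨U, hU, hd⟩ := h
  refine ⟨U.map E.toLinearMap, ?_, ?_⟩
  · rintro _ ⟨x, hx, rfl⟩
    rw [LinearEquiv.coe_coe, hE]; exact hU x hx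
  · rw [LinearEquiv.finrank_map_eq, hd, E.finrank_eq]

omit [Fintype F] in
theorem not_isPlus_minus [Finite F] {a c : F} (hac : Aniso a c) (k : ℕ) :
    ¬ IsPlus (CfsgLib.OrthCrit.minusForm k F a c) := by
  classical
  cases nonempty_fintype F
  obtain ⟨a', c', hac'⟩ := exists_aniso (F := F)
  let e : Fin k → ((Fin k ⊕ Fin k) ⊕ Fin 2 → F) := fun i => Pi.single (.inl (.inl i)) 1
  let f : Fin k → ((Fin k ⊕ Fin k) ⊕ Fin 2 → F) := fun i => Pi.single (.inl (.inr i)) 1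
  let L : (Fin 2 → F) →ₗ[F] ((Fin k ⊕ Fin k) ⊕ Fin 2 → F) :=
    { toFun := fun z => Sum.elim 0 z
      map_add' := fun u v => by funext x; rcases x with x | x <;> simp
      map_smul' := fun s v => by funext x; rcases x with x | x <;> simp }
  let W : Submodule F ((Fin k ⊕ Fin k) ⊕ Fin 2 → F) := LinearMap.range L
  refine not_isPlus_of_plane _ (CfsgLib.OrthCrit.ndPolar_minusForm k a c hac
      (CfsgLib.OrthCrit.a_ne_zero_of_anisotropic hac)) (k := k) (e := e) (f := f)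
    ⟨fun i => ?_, fun i j => ?_, fun i j => ?_⟩ W ?_ ?_ ?_ ?_
  · constructor <;> simp [e, f, Cfsg.quadFormMinus, Pi.single_apply]
  · simp [e, f, CfsgLib.OrthCrit.polar_minusForm, CfsgLib.OrthCrit.polar_plusForm, Pi.single_apply, eq_comm]
  · constructor <;> simp [e, f, CfsgLib.OrthCrit.polar_minusForm, CfsgLib.OrthCrit.polar_plusForm, Pi.single_apply]
  · rw [LinearMap.finrank_range_of_inj (f := L) fun u v huv => funext fun j => congrFun huv (.inr j)]
    simp
  · rintro _ ⟨z, rfl⟩ hz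
    have : z 0 = 0 ∧ z 1 = 0 := hac (z 0) (z 1) (by simpa [L, Cfsg.quadFormMinus] using hz)
    funext x
    rcases x with x | x
    · simp [L]
    · fin_cases x <;> simp [L, this.1, this.2]
  · rintro _ ⟨z, rfl⟩ i
    constructor <;> simp [e, f, L, CfsgLib.OrthCrit.polar_minusForm, CfsgLib.OrthCrit.polar_plusForm, Pi.single_apply]
  · simp; ring

/-- Spaces of the same type and dimension are isometric. -/
theorem exists_isometry_even {W : Type*} [AddCommGroup W] [Module F W] [FiniteDimensional F W]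
    (Q : QuadraticForm F V) (Q' : QuadraticForm F W) (hQ : NDPolar Q) (hQ' : NDPolar Q') {m : ℕ}
    (hV : finrank F V = 2 * m) (hW : finrank F W = 2 * m) (h : IsPlus Q ↔ IsPlus Q') :
    ∃ f : V ≃ₗ[F] W, ∀ x, Q' (f x) = Q x := by
  obtain ⟨a, c, hac⟩ := exists_aniso (F := F)
  rcases classify_even Q hQ hV hac with ⟨hp, E, hE⟩ | ⟨hp, k, hk, E, hE⟩ <;>
    rcases classify_even Q' hQ' hW hac with ⟨hp', E', hE'⟩ | ⟨hp', k', hk', E', hE'⟩
  · exact ⟨E.symm.trans E', fun x => by rw [LinearEquiv.trans_apply, hE', ← hE, E.apply_symm_apply]⟩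
  · exact absurd (h.1 hp) hp'
  · exact absurd (h.2 hp') hp
  · obtain rfl : k = k' := by omega
    exact ⟨E.symm.trans E', fun x => by rw [LinearEquiv.trans_apply, hE', ← hE, E.apply_symm_apply]⟩

variable {r : ℕ} (A : V ≃ₗ[F] V) (hAr : ∀ x, (⇑A)^[r] x = x) (hr : Odd r) (hrF : (r : F) ≠ 0)

include hAr hr hrF

/-- An isometry between two invariant quadratic forms can be chosen commuting with `A`. -/
theorem exists_commute_quad (Q Q₂ : QuadraticForm F V) (hQn : NDPolar Q) (hQ₂n : NDPolar Q₂)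
    (hQ : ∀ x, Q (A x) = Q x) (hQ₂ : ∀ x, Q₂ (A x) = Q₂ x)
    (g : V ≃ₗ[F] V) (hg : ∀ x, Q (g x) = Q₂ x) :
    ∃ k : V ≃ₗ[F] V, (∀ x, k (A x) = A (k x)) ∧ ∀ x, Q (k x) = Q₂ x := by
  obtain ⟨V₀, V₁, hc, h0, hA1, hfpf, -, horth⟩ := exists_decomp A hAr hr hrF
  let A₁ : V₁ ≃ₗ[F] V₁ := LinearEquiv.ofInjectiveEndo (A.toLinearMap.restrict hA1)
    (fun x y h => Subtype.ext (A.injective (congrArg Subtype.val h :)))
  have hA₁ : ∀ x : V₁, (A₁ x : V) = A x := fun x => rfl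
  have hf2 : ∀ x : V₁, A₁ (A₁ x) = x → x = 0 := fun x hx => Subtype.ext (hfpf x x.2 (congrArg Subtype.val hx :))
  have hAB : ∀ x y, polarBilin Q (A x) (A y) = polarBilin Q x y := fun x y => by
    simp only [polarBilin_apply_apply, polar, ← map_add, hQ]
  have hAB₂ : ∀ x y, polarBilin Q₂ (A x) (A y) = polarBilin Q₂ x y := fun x y => by
    simp only [polarBilin_apply_apply, polar, ← map_add, hQ₂]
  obtain ⟨h₁, hh₁c, hh₁⟩ := exists_commute_isometry A₁ hf2 1 (LinearMap.BilinForm.restrict (polarBilin Q) V₁) (LinearMap.BilinForm.restrict (polarBilin Q₂) V₁)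
    (fun x y => by show polar Q (y : V) x = 1 * polar Q (x : V) y; rw [one_mul, polar_comm])
    (fun x y => by show polar Q₂ (y : V) x = 1 * polar Q₂ (x : V) y; rw [one_mul, polar_comm])
    (nondeg_restrict hc.symm (polarBilin Q) hQn fun x hx y hy => (horth _ hAB y hy x hx).2)
    (nondeg_restrict hc.symm (polarBilin Q₂) hQ₂n fun x hx y hy => (horth _ hAB₂ y hy x hx).2)
    (fun x y => hAB x y) (fun x y => hAB₂ x y)
  have hQh : ∀ x : V₁, Q (h₁ x) = Q₂ x := by
    refine quad_ext A₁ (fun x hx => hf2 x (by rw [hx, hx]))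
      ((Q.comp V₁.subtype).comp h₁.toLinearMap) (Q₂.comp V₁.subtype) (fun x => ?_) (fun x => ?_) fun x y => ?_
    · show Q (h₁ (A₁ x)) = Q (h₁ x)
      rw [hh₁c, hA₁, hQ]
    · exact hQ₂ x
    · have h := hh₁ x y
      change polar Q (h₁ x : V) (h₁ y) = polar Q₂ (x : V) y at h
      show Q ((h₁ (x + y) : V₁) : V) - Q (h₁ x) - Q (h₁ y) = Q₂ ((x + y : V₁) : V) - Q₂ x - Q₂ y
      rw [map_add, Submodule.coe_add, Submodule.coe_add]
      exact h
  let P := Submodule.prodEquivOfIsCompl V₀ V₁ hc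
  let p₁ : V →ₗ[F] V₁ := (LinearMap.snd F V₀ V₁).comp P.symm.toLinearMap
  have hp₁ : ∀ y : V₁, p₁ y = y := fun y => by simp [p₁, P]
  let f : V →ₗ[F] V := g.toLinearMap ∘ₗ V₁.subtype ∘ₗ h₁.symm.toLinearMap ∘ₗ p₁
  have hfy : ∀ y : V₁, f y = g (h₁.symm y) := fun y => by simp [f, hp₁]
  obtain ⟨T, hT, hTf⟩ := CfsgLib.Forms.witt_quadratic Q (CfsgLib.Orth.ndPolar_iff.1 hQn) V₁ f
    (fun x hx => by rw [hfy ⟨x, hx⟩, hg, ← hQh, LinearEquiv.apply_symm_apply])
    (fun x hx h => by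
      rw [hfy ⟨x, hx⟩, LinearEquiv.map_eq_zero_iff, Submodule.coe_eq_zero, LinearEquiv.map_eq_zero_iff] at h
      exact congrArg Subtype.val h)
  let k : V ≃ₗ[F] V := g ≪≫ₗ T.symm
  have hk : ∀ x, Q (k x) = Q₂ x := fun x => by
    show Q (T.symm (g x)) = Q₂ x
    rw [← hT, T.apply_symm_apply, hg]
  have hk1 : ∀ y : V₁, k y = h₁ y := fun y => by
    show T.symm (g y) = h₁ y
    rw [LinearEquiv.symm_apply_eq, hTf _ (h₁ y).2, hfy, LinearEquiv.symm_apply_apply]
  have hk0 : ∀ x : V₀, k x ∈ V₀ := fun x => by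
    obtain ⟨⟨z₀, z₁⟩, hz⟩ := P.surjective (k x)
    have hz' : (z₀ : V) + z₁ = k x := hz
    have hpol : ∀ u v, polar Q (k u) (k v) = polar Q₂ u v := fun u v => by
      simp only [polar, ← map_add, hk]
    have hz1 : z₁ = 0 := by
      refine nondeg_restrict hc.symm (polarBilin Q) hQn (fun x hx y hy => (horth _ hAB y hy x hx).2) z₁ fun w => ?_
      obtain ⟨w', rfl⟩ := h₁.surjective w
      show polar Q (z₁ : V) (h₁ w') = 0
      have h2 : polar Q (k x) (k w') = 0 := (hpol _ _).trans (horth _ hAB₂ x x.2 w' w'.2).1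
      rw [hk1, ← hz', polar_add_left, show polar Q (z₀ : V) (h₁ w') = 0 from (horth _ hAB _ z₀.2 _ (h₁ w').2).1,
        zero_add] at h2
      exact h2
    rw [← hz', hz1, Submodule.coe_zero, add_zero]; exact z₀.2
  refine ⟨k, fun z => ?_, hk⟩
  obtain ⟨⟨x, y⟩, rfl⟩ := P.surjective z
  show k (A ((x : V) + y)) = A (k ((x : V) + y))
  rw [map_add A, (h0 x).1 x.2, ← hA₁, map_add k, map_add k, map_add A, hk1, hk1, hh₁c, hA₁,
    (h0 _).1 (hk0 x)]

/-- Invariant quadratic forms from an invariant bilinear one: the part on the fixed space is arbitrary. -/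
theorem exists_split_form (S : LinearMap.BilinForm F V) (hS : ∀ x, (∀ y, S x y = 0) → x = 0)
    (hAS : ∀ x y, S (A x) (A y) = S x y) :
    ∃ (V₀ V₁ : Submodule F V) (mk : QuadraticForm F V₀ → QuadraticForm F V), IsCompl V₀ V₁ ∧
      (∀ x, x ∈ V₀ ↔ A x = x) ∧ Even (finrank F V₁) ∧
      (∀ Q₀ (x : V₀), mk Q₀ x = Q₀ x) ∧ (∀ Q₀ Q₀' (y : V₁), mk Q₀ y = mk Q₀' y) ∧
      (∀ Q₀ (x : V₀) (y : V₁), polar (mk Q₀) (x : V) y = 0) ∧
      ∀ Q₀, NDPolar Q₀ → NDPolar (mk Q₀) ∧ ∀ x, mk Q₀ (A x) = mk Q₀ x := by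
  obtain ⟨V₀, V₁, hc, h0, hA1, hfpf, -, horth⟩ := exists_decomp A hAr hr hrF
  let A₁ : V₁ ≃ₗ[F] V₁ := LinearEquiv.ofInjectiveEndo (A.toLinearMap.restrict hA1)
    (fun x y h => Subtype.ext (A.injective (congrArg Subtype.val h :)))
  have hA₁ : ∀ x : V₁, (A₁ x : V) = A x := fun x => rfl
  have hf2 : ∀ x : V₁, A₁ (A₁ x) = x → x = 0 := fun x hx => Subtype.ext (hfpf x x.2 (congrArg Subtype.val hx :))
  have hf1 : ∀ x : V₁, A₁ x = x → x = 0 := fun x hx => hf2 x (by rw [hx, hx])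
  have hS1 := nondeg_restrict hc.symm S hS fun x hx y hy => (horth S hAS y hy x hx).2
  obtain ⟨B₁, hB₁s, hB₁n, hB₁A⟩ := exists_symm_form A₁ hf2 1 (one_mul 1) (S.restrict V₁) hS1 (fun x y => hAS x y)
  obtain ⟨Q₁, hQ₁A, hQ₁p⟩ := exists_quad A₁ hf1 B₁ (fun x y => by rw [hB₁s, one_mul]) hB₁A
  have hev : Even (finrank F V₁) := by
    obtain ⟨C, hCs, hCn, hCA⟩ := exists_symm_form A₁ hf2 (-1) (by ring) (S.restrict V₁) hS1 (fun x y => hAS x y)
    obtain ⟨k, b, -⟩ := alt_basis C (isAlt_of_skew A₁ hf1 C (fun x y => by rw [hCs]; ring) hCA) hCn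
    exact ⟨k, by rw [finrank_eq_card_basis b]; simp⟩
  let P := Submodule.prodEquivOfIsCompl V₀ V₁ hc
  let p₀ : V →ₗ[F] V₀ := (LinearMap.fst F V₀ V₁).comp P.symm.toLinearMap
  let p₁ : V →ₗ[F] V₁ := (LinearMap.snd F V₀ V₁).comp P.symm.toLinearMap
  have hp : ∀ (x : V₀) (y : V₁), p₀ ((x : V) + y) = x ∧ p₁ ((x : V) + y) = y := fun x y => by
    have hP : (x : V) + y = P (x, y) := rfl
    simp [p₀, p₁, hP]
  let mk : QuadraticForm F V₀ → QuadraticForm F V := fun Q₀ => Q₀.comp p₀ + Q₁.comp p₁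
  have hmk : ∀ Q₀ (x : V₀) (y : V₁), mk Q₀ ((x : V) + y) = Q₀ x + Q₁ y := fun Q₀ x y => by
    show Q₀ (p₀ _) + Q₁ (p₁ _) = _
    rw [(hp x y).1, (hp x y).2]
  have hpol : ∀ Q₀ (x x' : V₀) (y y' : V₁), polar (mk Q₀) ((x : V) + y) ((x' : V) + y') =
      polar Q₀ x x' + polar Q₁ y y' := fun Q₀ x x' y y' => by
    simp only [polar]
    rw [show (x : V) + y + ((x' : V) + y') = ((x + x' : V₀) : V) + (y + y' : V₁) by push_cast; abel, hmk, hmk, hmk]
    ring
  refine ⟨V₀, V₁, mk, hc, h0, hev, fun Q₀ x => ?_, fun Q₀ Q₀' y => ?_, fun Q₀ x y => ?_, fun Q₀ hQ₀ => ⟨?_, ?_⟩⟩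
  · have := hmk Q₀ x 0
    simpa using this
  · have h1 := hmk Q₀ 0 y
    have h2 := hmk Q₀' 0 y
    simp only [Submodule.coe_zero, zero_add, QuadraticMap.map_zero] at h1 h2
    rw [h1, h2]
  · have h1 := hpol Q₀ x 0 0 y
    simpa [polar_zero_left, polar_zero_right] using h1
  · intro z hz
    obtain ⟨⟨x, y⟩, rfl⟩ := P.surjective z
    have hx : x = 0 := hQ₀ x fun w => by
      have h1 : polar (mk Q₀) ((x : V) + y) ((w : V) + (0 : V₁)) = 0 := hz _
      rw [hpol] at h1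
      simpa [polar_zero_right] using h1
    have hy : y = 0 := hB₁n y fun w => by
      have h1 : polar (mk Q₀) ((x : V) + y) (((0 : V₀) : V) + w) = 0 := hz _
      rw [hpol, hQ₁p] at h1
      simpa [polar_zero_right] using h1
    rw [hx, hy]; exact map_zero P
  · intro z
    obtain ⟨⟨x, y⟩, rfl⟩ := P.surjective z
    show mk Q₀ (A ((x : V) + y)) = mk Q₀ ((x : V) + y)
    rw [map_add A, (h0 x).1 x.2, ← hA₁, hmk, hmk, hQ₁A]

/-- An invariant form of either type, unless the fixed space is zero. -/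
theorem exists_form_of_type (S : LinearMap.BilinForm F V) (hS : ∀ x, (∀ y, S x y = 0) → x = 0)
    (hAS : ∀ x y, S (A x) (A y) = S x y) {m : ℕ} (hdim : finrank F V = 2 * m) (plus : Prop)
    (hforced : (∀ x, A x = x → x = 0) → ∀ Q : QuadraticForm F V, NDPolar Q → (∀ x, Q (A x) = Q x) → (IsPlus Q ↔ plus)) :
    ∃ Q : QuadraticForm F V, NDPolar Q ∧ (∀ x, Q (A x) = Q x) ∧ (IsPlus Q ↔ plus) := by
  classical
  obtain ⟨V₀, V₁, mk, hc, h0, hev, hmk0, hmk1, hmkp, hmk⟩ := exists_split_form A hAr hr hrF S hS hAS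
  obtain ⟨j, hj⟩ : Even (finrank F V₀) := by
    have h1 := Submodule.finrank_add_eq_of_isCompl hc
    have : Even (finrank F V₀ + finrank F V₁) := by rw [h1, hdim]; exact even_two_mul m
    exact (Nat.even_add.1 this).2 hev
  rcases Nat.eq_zero_or_pos j with rfl | hjpos
  · obtain rfl : V₀ = ⊥ := Submodule.finrank_eq_zero.1 hj
    have hn : NDPolar (0 : QuadraticForm F (⊥ : Submodule F V)) := fun x _ => Subsingleton.elim _ _
    exact ⟨mk 0, (hmk 0 hn).1, (hmk 0 hn).2,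
      hforced (fun x hx => (Submodule.mem_bot F).1 ((h0 x).2 hx)) _ (hmk 0 hn).1 (hmk 0 hn).2⟩
  · obtain ⟨j', rfl⟩ : ∃ j', j = j' + 1 := ⟨j - 1, by omega⟩
    obtain ⟨a, c, hac⟩ := exists_aniso (F := F)
    let e₀ : V₀ ≃ₗ[F] (Fin (j' + 1) ⊕ Fin (j' + 1) → F) := LinearEquiv.ofFinrankEq _ _ (by simp [hj])
    let e₁ : V₀ ≃ₗ[F] ((Fin j' ⊕ Fin j') ⊕ Fin 2 → F) := LinearEquiv.ofFinrankEq _ _ (by simp [hj]; ring)
    let P₀ : QuadraticForm F V₀ := (CfsgLib.OrthCrit.plusForm (j' + 1) F).comp e₀.toLinearMap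
    let M₀ : QuadraticForm F V₀ := (CfsgLib.OrthCrit.minusForm j' F a c).comp e₁.toLinearMap
    have hP₀ : NDPolar P₀ := fun x hx => e₀.map_eq_zero_iff.1 (CfsgLib.OrthCrit.ndPolar_plusForm _ _ fun y => by
      have h := hx (e₀.symm y)
      simpa [P₀, polar, map_add] using h)
    have hM₀ : NDPolar M₀ := fun x hx => e₁.map_eq_zero_iff.1 (CfsgLib.OrthCrit.ndPolar_minusForm j' a c hac (CfsgLib.OrthCrit.a_ne_zero_of_anisotropic hac) _ fun y => by
      have h := hx (e₁.symm y)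
      simpa [M₀, polar, map_add] using h)
    have hPplus : IsPlus P₀ := by
      have hd : finrank F (Fin (j' + 1) ⊕ Fin (j' + 1) → F) = 2 * (j' + 1) := by simp [two_mul]
      rcases classify_even (CfsgLib.OrthCrit.plusForm (j' + 1) F) (CfsgLib.OrthCrit.ndPolar_plusForm _) hd hac
        with ⟨h, -⟩ | ⟨h, -⟩
      · exact isPlus_congr _ P₀ e₀.symm (fun x => by simp [P₀]) h
      · refine absurd ⟨CfsgLib.OrthCrit.halfSpace F (j' + 1), CfsgLib.OrthCrit.halfSpace_singular, ?_⟩ h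
        rw [CfsgLib.OrthCrit.finrank_halfSpace, hd]
    have hMminus : ¬ IsPlus M₀ := fun h => not_isPlus_minus hac j'
      (isPlus_congr M₀ _ e₁ (fun x => rfl) h)
    by_cases hgoal : IsPlus (mk P₀) ↔ plus
    · exact ⟨mk P₀, (hmk P₀ hP₀).1, (hmk P₀ hP₀).2, hgoal⟩
    refine ⟨mk M₀, (hmk M₀ hM₀).1, (hmk M₀ hM₀).2, ?_⟩
    suffices hne : ¬ (IsPlus (mk P₀) ↔ IsPlus (mk M₀)) by tauto
    intro hiff
    obtain ⟨f, hf⟩ := exists_isometry_even (mk P₀) (mk M₀) (hmk P₀ hP₀).1 (hmk M₀ hM₀).1 hdim hdim hiff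
    obtain ⟨T, hT, hTf⟩ := CfsgLib.Forms.witt_quadratic (mk M₀) (CfsgLib.Orth.ndPolar_iff.1 (hmk M₀ hM₀).1)
      (V₁.map f.toLinearMap) f.symm.toLinearMap
      (by rintro _ ⟨y, hy, rfl⟩
          simp only [LinearEquiv.coe_coe, LinearEquiv.symm_apply_apply]
          rw [hf, hmk1 P₀ M₀ ⟨y, hy⟩])
      (fun x _ hx => f.symm.map_eq_zero_iff.1 hx)
    let k : V ≃ₗ[F] V := f ≪≫ₗ T
    have hk : ∀ x, mk M₀ (k x) = mk P₀ x := fun x => by show mk M₀ (T (f x)) = _; rw [hT, hf]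
    have hk1 : ∀ y ∈ V₁, k y = y := fun y hy => by
      show T (f y) = y
      rw [hTf (f y) ⟨y, hy, rfl⟩]; simp
    have hk0 : ∀ x : V₀, k x ∈ V₀ := fun x => by
      obtain ⟨⟨z₀, z₁⟩, hz⟩ := (Submodule.prodEquivOfIsCompl V₀ V₁ hc).surjective (k x)
      have hz' : (z₀ : V) + z₁ = k x := hz
      have hz1 : z₁ = 0 := by
        refine nondeg_restrict hc.symm (polarBilin (mk M₀)) (hmk M₀ hM₀).1 (fun u hu v hv => by
          show polar (mk M₀) u v = 0
          rw [polar_comm]; exact hmkp M₀ ⟨v, hv⟩ ⟨u, hu⟩) z₁ fun w => ?_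
        show polar (mk M₀) (z₁ : V) w = 0
        have h2 : polar (mk M₀) (k x) (k w) = 0 := by
          simp only [polar, ← map_add, hk]
          exact hmkp P₀ x w
        rw [hk1 _ w.2, ← hz', polar_add_left, hmkp M₀ z₀ w, zero_add] at h2
        exact h2
      rw [← hz', hz1, Submodule.coe_zero, add_zero]; exact z₀.2
    let k₀ : V₀ ≃ₗ[F] V₀ := LinearEquiv.ofInjectiveEndo (k.toLinearMap.restrict (p := V₀) (q := V₀) fun x hx => hk0 ⟨x, hx⟩)
      (fun x y h => Subtype.ext (k.injective (congrArg Subtype.val h :)))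
    refine hMminus (isPlus_congr P₀ M₀ k₀ (fun x => ?_) hPplus)
    rw [← hmk0 M₀ (k₀ x), ← hmk0 P₀ x]
    exact hk x

end Space

section Group

variable {r : ℕ} [Fact r.Prime] [NeZero (r : F)] {ι : Type} [Fintype ι] [DecidableEq ι]

theorem mult_zero_iff (M : Matrix ι ι F) :
    mult F r M 0 = 0 ↔ ∀ x : ι → F, M *ᵥ x = x → x = 0 := by
  classical
  rw [mult, Multiset.count_eq_zero, eig, Polynomial.mem_roots_map_of_injective
    (algebraMap F (Clo F)).injective (Matrix.charpoly_monic M).ne_zero, root_zero, ← map_one (algebraMap F (Clo F)),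
    Polynomial.eval₂_at_apply, map_eq_zero, Matrix.eval_charpoly, map_one]
  rw [← ne_eq, ← isUnit_iff_ne_zero, ← Matrix.isUnit_iff_isUnit_det, ← Matrix.mulVec_injective_iff_isUnit]
  constructor
  · intro h x hx
    exact h (show (1 - M) *ᵥ x = (1 - M) *ᵥ 0 by rw [Matrix.sub_mulVec, Matrix.one_mulVec, hx, sub_self, Matrix.mulVec_zero])
  · intro h x y hxy
    refine sub_eq_zero.1 (h _ ?_)
    have : (1 - M) *ᵥ (x - y) = 0 := by rw [Matrix.mulVec_sub, sub_eq_zero]; exact hxy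
    rw [Matrix.sub_mulVec, Matrix.one_mulVec, sub_eq_zero] at this
    exact this.symm

omit [Fintype F] [Fact r.Prime] [NeZero (r : F)] in
theorem iterate_toLin {g : GL ι F} (hg : g ^ r = 1) (x : ι → F) :
    (⇑(Matrix.GeneralLinearGroup.toLin g).toLinearEquiv)^[r] x = x := by
  have h1 : ∀ j : ℕ, (⇑(Matrix.GeneralLinearGroup.toLin g).toLinearEquiv)^[j] x = ((g : Matrix ι ι F) ^ j) *ᵥ x := fun j => by
    induction j with
    | zero => simp
    | succ j ih => rw [Function.iterate_succ_apply', ih, pow_succ', ← Matrix.mulVec_mulVec]; simp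
  rw [h1, ← Units.val_pow_eq_pow_val, hg, Units.val_one, Matrix.one_mulVec]

/-- Classes of elements of order `r` in the isometry group of a quadratic form. -/
theorem card_classes_orth (hr2 : r ≠ 2) (Q : QuadraticForm F (ι → F)) (hnd : NDPolar Q) (C : (ZMod r → ℕ) → Prop)
    (hforward : ∀ g : GL ι F, g ∈ Cfsg.isometryGroup F ⇑Q → g ^ r = 1 → C (mult F r (g : Matrix ι ι F)))
    (hreal : ∀ (g : GL ι F), g ^ r = 1 → C (mult F r (g : Matrix ι ι F)) →
      ∀ S : LinearMap.BilinForm F (ι → F), (∀ x, (∀ y, S x y = 0) → x = 0) →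
        (∀ x y, S ((g : Matrix ι ι F) *ᵥ x) ((g : Matrix ι ι F) *ᵥ y) = S x y) →
        ∃ (Q' : QuadraticForm F (ι → F)) (f : (ι → F) ≃ₗ[F] (ι → F)), (∀ x, Q' ((g : Matrix ι ι F) *ᵥ x) = Q' x) ∧
          ∀ x, Q (f x) = Q' x) :
    Nat.card {D : ConjClasses ↥(Cfsg.isometryGroup F ⇑Q) //
        ∃ g : ↥(Cfsg.isometryGroup F ⇑Q), ConjClasses.mk g = D ∧ orderOf g = r} =
      Nat.card {μ : ZMod r → ℕ // (∀ x, μ ((Fintype.card F : ZMod r) * x) = μ x) ∧
        ((∀ x, μ (-x) = μ x) ∧ C μ) ∧ ∑ x, μ x = Fintype.card ι ∧ μ 0 ≠ Fintype.card ι} := by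
  classical
  have hrodd : Odd r := (Fact.out : r.Prime).odd_of_ne_two hr2
  have hrF : (r : F) ≠ 0 := NeZero.ne _
  have happ : ∀ (g : GL ι F) x, (Matrix.GeneralLinearGroup.toLin g).toLinearEquiv x = (g : Matrix ι ι F) *ᵥ x :=
    fun g x => by simp
  let j := (Cfsg.isometryGroup F ⇑Q).subtype
  have hmem : ∀ g : GL ι F, g ∈ Cfsg.isometryGroup F ⇑Q ↔ ∀ u, Q ((g : Matrix ι ι F) *ᵥ u) = Q u :=
    fun g => ⟨fun h u => h u u, fun h u _ => h u⟩
  refine card_classes F r j Subtype.val_injective ?_ (fun μ => (∀ x, μ (-x) = μ x) ∧ C μ) ?_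
  · intro a b ha hb hab
    obtain ⟨g, hg⟩ := isConj_iff.1 hab
    let T := (Matrix.GeneralLinearGroup.toLin g).toLinearEquiv
    let A := (Matrix.GeneralLinearGroup.toLin (j a)).toLinearEquiv
    have hAQ : ∀ x, Q (A x) = Q x := fun x => by rw [happ]; exact (hmem _).1 a.2 x
    have hga : ∀ x, T (A x) = (j b : Matrix ι ι F) *ᵥ T x := fun x => by
      simp only [T, A, happ, Matrix.mulVec_mulVec, ← Units.val_mul]
      rw [mul_inv_eq_iff_eq_mul.1 hg]
    obtain ⟨k, hk, hkQ⟩ := exists_commute_quad A (iterate_toLin (by rw [← map_pow, ha, map_one])) hrodd hrF Q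
      (Q.comp T.toLinearMap) hnd
      (fun x hx => T.map_eq_zero_iff.1 (hnd _ fun y => by
        have h := hx (T.symm y); simpa [polar, map_add] using h))
      hAQ (fun x => by
        show Q (T (A x)) = Q (T x)
        rw [hga]; exact (hmem _).1 b.2 _)
      T (fun x => rfl)
    let U : (ι → F) ≃ₗ[F] (ι → F) := k.symm ≪≫ₗ T
    let M : GL ι F := Matrix.GeneralLinearGroup.toLin.symm (LinearMap.GeneralLinearGroup.ofLinearEquiv U)
    have hM : ∀ x, (M : Matrix ι ι F) *ᵥ x = U x := fun x => by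
      rw [← happ, MulEquiv.apply_symm_apply]; rfl
    have hMQ : M ∈ Cfsg.isometryGroup F ⇑Q := (hmem M).2 fun x => by
      rw [hM]
      show Q (T (k.symm x)) = Q x
      have h := hkQ (k.symm x)
      rw [k.apply_symm_apply] at h
      exact h.symm
    refine isConj_iff.2 ⟨⟨M, hMQ⟩, mul_inv_eq_iff_eq_mul.2 (Subtype.ext (Units.ext (Matrix.ext_iff_mulVec.2 fun x => ?_)))⟩
    show ((M : Matrix ι ι F) * (j a : Matrix ι ι F)) *ᵥ x = ((j b : Matrix ι ι F) * (M : Matrix ι ι F)) *ᵥ x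
    rw [← Matrix.mulVec_mulVec, ← Matrix.mulVec_mulVec, hM, hM, ← happ (j a)]
    show T (k.symm (A x)) = (j b : Matrix ι ι F) *ᵥ T (k.symm x)
    rw [← hga]
    congr 1
    rw [LinearEquiv.symm_apply_eq, hk, k.apply_symm_apply]
  · intro g hg
    let gt : GL ι F :=
      ⟨(g : Matrix ι ι F)ᵀ, ((g⁻¹ : GL ι F) : Matrix ι ι F)ᵀ,
        by rw [← Matrix.transpose_mul, ← Units.val_mul, inv_mul_cancel, Units.val_one, Matrix.transpose_one],
        by rw [← Matrix.transpose_mul, ← Units.val_mul, mul_inv_cancel, Units.val_one, Matrix.transpose_one]⟩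
    have hgt : gt ^ r = 1 := Units.ext (by
      show ((g : Matrix ι ι F)ᵀ) ^ r = 1
      rw [← Matrix.transpose_pow, ← Units.val_pow_eq_pow_val, hg, Units.val_one, Matrix.transpose_one])
    constructor
    · rintro ⟨a, ha⟩
      obtain ⟨c, hc⟩ := isConj_iff.1 ha
      have hm : mult F r (g : Matrix ι ι F) = mult F r (j a : Matrix ι ι F) := by
        rw [← hc, Units.val_mul, Units.val_mul, mult_units_conj]
      have har : (j a) ^ r = 1 := by
        rw [show j a = c⁻¹ * g * c by rw [← hc]; group]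
        have hh := conj_pow (a := c⁻¹) (b := g) (i := r)
        rw [inv_inv] at hh
        rw [hh, hg, mul_one, inv_mul_cancel]
      rw [hm]
      refine ⟨fun x => ?_, hforward (j a) a.2 har⟩
      let P : Matrix ι ι F := LinearMap.BilinForm.toMatrix' (polarBilin Q)
      have hPB : Matrix.toBilin' P = polarBilin Q := Matrix.toBilin'_toMatrix' _
      have hPu : IsUnit P := Matrix.vecMul_injective_iff_isUnit.1 fun u v huv => sub_eq_zero.1 (hnd _ fun y => by
        have huv' : u ᵥ* P = v ᵥ* P := huv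
        rw [← polarBilin_apply_apply, ← hPB, Matrix.toBilin'_apply', Matrix.dotProduct_mulVec, Matrix.sub_vecMul,
          huv', sub_self, zero_dotProduct])
      obtain ⟨Pu, hPu'⟩ := hPu
      have h1 : (j a : Matrix ι ι F)ᵀ * P * (j a : Matrix ι ι F) = P := Matrix.toBilin'.injective
        (LinearMap.ext fun u => LinearMap.ext fun v => by
          rw [← toBilin'_mulVec, hPB]
          simp only [polarBilin_apply_apply, polar, ← Matrix.mulVec_add]
          rw [(hmem (j a)).1 a.2, (hmem (j a)).1 a.2, (hmem (j a)).1 a.2])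
      have h2 : ((Pu : GL ι F) : Matrix ι ι F) * ((j a)⁻¹ : GL ι F).val * ((Pu⁻¹ : GL ι F) : Matrix ι ι F) = (j a : Matrix ι ι F)ᵀ := by
        rw [Units.mul_inv_eq_iff_eq_mul, Units.mul_inv_eq_iff_eq_mul, hPu']
        exact h1.symm
      rw [← mult_inv F r har, ← mult_units_conj F r Pu, h2, mult_transpose]
    · rintro ⟨hsym, hC⟩
      have hgm : mult F r (g : Matrix ι ι F) = mult F r ((gt⁻¹ : GL ι F) : Matrix ι ι F) := by
        funext x
        rw [mult_inv F r hgt, show (gt : Matrix ι ι F) = (g : Matrix ι ι F)ᵀ from rfl, mult_transpose, hsym]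
      obtain ⟨S, hS⟩ := isConj_iff.1 (isConj_of_mult_eq F r hg (by rw [inv_pow, hgt, inv_one]) hgm)
      have hSg : (g : Matrix ι ι F)ᵀ * (S : Matrix ι ι F) * g = S := by
        have : gt * S * g = S := by rw [mul_assoc, mul_inv_eq_iff_eq_mul.1 hS, ← mul_assoc, mul_inv_cancel, one_mul]
        exact congrArg Units.val this
      obtain ⟨Q', f, hQ'g, hf⟩ := hreal g hg hC (Matrix.toBilin' (S : Matrix ι ι F)) (toBilin'_nondeg _ S.isUnit)
        (fun x y => by rw [toBilin'_mulVec, hSg])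
      let Mf : GL ι F := Matrix.GeneralLinearGroup.toLin.symm (LinearMap.GeneralLinearGroup.ofLinearEquiv f)
      have hMf : ∀ x, (Mf : Matrix ι ι F) *ᵥ x = f x := fun x => by
        rw [← happ, MulEquiv.apply_symm_apply]; rfl
      have hmemc : Mf * g * Mf⁻¹ ∈ Cfsg.isometryGroup F ⇑Q := (hmem _).2 fun u => by
        obtain ⟨x, rfl⟩ := f.surjective u
        rw [Units.val_mul, Units.val_mul, ← hMf, Matrix.mulVec_mulVec, mul_assoc, Units.inv_mul, mul_one,
          ← Matrix.mulVec_mulVec, hMf, hMf, hf, hf, hQ'g]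
      exact ⟨⟨_, hmemc⟩, IsConj.symm (isConj_iff.2 ⟨Mf, rfl⟩)⟩

omit [Fintype F] [NeZero (r : F)] in
theorem dvd_sum_sub (H : Subgroup (ZMod r)ˣ) (μ : ZMod r → ℕ) (hμ : Inv H μ) :
    Nat.card H ∣ ∑ x, μ x - μ 0 := by
  classical
  have := Fintype.ofFinite ((ZMod r)ˣ ⧸ H)
  rw [sum_eq μ, Nat.add_sub_cancel_left,
    show ∑ u : (ZMod r)ˣ, μ u = ∑ u : (ZMod r)ˣ, orbitFun H μ hμ u from rfl, sum_lift]
  exact dvd_mul_right _ _

/-- Classes in an even-dimensional orthogonal group. -/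
theorem card_classes_orth_even (hr2 : r ≠ 2) (Q : QuadraticForm F (ι → F)) (hnd : NDPolar Q) {m : ℕ} (hm : 1 ≤ m)
    (hdim : Fintype.card ι = 2 * m) {i : ℕ} (hi : i = orderOf (Fintype.card F : ZMod r)) :
    Nat.card {D : ConjClasses ↥(Cfsg.isometryGroup F ⇑Q) //
        ∃ g : ↥(Cfsg.isometryGroup F ⇑Q), ConjClasses.mk g = D ∧ orderOf g = r} =
      Nat.card {μ : ZMod r → ℕ // (∀ x, μ ((Fintype.card F : ZMod r) * x) = μ x) ∧
        ((∀ x, μ (-x) = μ x) ∧ (μ 0 = 0 → (IsPlus Q ↔ (Odd i ∨ Even (2 * m / i))))) ∧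
          ∑ x, μ x = Fintype.card ι ∧ μ 0 ≠ Fintype.card ι} := by
  classical
  have happ : ∀ (g : GL ι F) x, (Matrix.GeneralLinearGroup.toLin g).toLinearEquiv x = (g : Matrix ι ι F) *ᵥ x :=
    fun g x => by simp
  have hdimV : finrank F (ι → F) = 2 * m := by rw [Module.finrank_fintype_fun_eq_card, hdim]
  have key : ∀ (g : GL ι F), g ^ r = 1 → (∀ x, (g : Matrix ι ι F) *ᵥ x = x → x = 0) →
      ∀ Q' : QuadraticForm F (ι → F), NDPolar Q' → (∀ x, Q' ((g : Matrix ι ι F) *ᵥ x) = Q' x) →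
        (IsPlus Q' ↔ (Odd i ∨ Even (2 * m / i))) := by
    intro g hg hfix Q' hQ' hgQ'
    let A := (Matrix.GeneralLinearGroup.toLin g).toLinearEquiv
    have hA : ∀ x, A x = x → x = 0 := fun x hx => hfix x (by rw [happ] at hx; exact hx)
    have hAQ : ∀ x, Q' (A x) = Q' x := fun x => by rw [happ]; exact hgQ' x
    rcases Nat.even_or_odd' i with ⟨i', rfl | rfl⟩
    · have hne : (Fintype.card F : ZMod r) ≠ 0 := by
        rw [Ne, CharP.cast_eq_zero_iff (ZMod r) r]
        intro hd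
        obtain ⟨p, hpc⟩ := CharP.exists F
        obtain ⟨k, hp, hk⟩ := FiniteField.card F p
        rw [hk] at hd
        have hrp := (Nat.prime_dvd_prime_iff_eq (Fact.out : r.Prime) hp).mp ((Fact.out : r.Prime).dvd_of_dvd_pow hd)
        exact NeZero.ne (r : F) (by rw [hrp]; exact CharP.cast_eq_zero F p)
      let u : (ZMod r)ˣ := Units.mk0 _ hne
      have hu : Nat.card (Subgroup.zpowers u) = 2 * i' := by
        rw [Nat.card_zpowers, ← orderOf_units, hi]; rfl
      have hi0 : i' ≠ 0 := fun h => by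
        have : 0 < Nat.card (Subgroup.zpowers u) := Nat.card_pos
        omega
      have hdvd := dvd_sum_sub (Subgroup.zpowers u) (mult F r (g : Matrix ι ι F))
        ((inv_zpowers_iff r u _).2 fun x => mult_frob F r x)
      rw [sum_mult F r (by rw [← Units.val_pow_eq_pow_val, hg, Units.val_one]), (mult_zero_iff _).2 hfix,
        Nat.sub_zero, hdim, hu] at hdvd
      obtain ⟨b, hb⟩ := Nat.dvd_of_mul_dvd_mul_left two_pos hdvd
      rw [type_of_even_order A hr2 hi.symm hi0 hm hdimV hb hA (iterate_toLin hg) Q' hQ' hAQ, hb,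
        show 2 * (i' * b) / (2 * i') = b by rw [← mul_assoc, Nat.mul_div_cancel_left _ (by omega)]]
      simp
    · exact iff_of_true (isPlus_of_odd_order A hr2 (hi ▸ odd_two_mul_add_one i') hA (iterate_toLin hg) Q' hQ' hAQ)
        (Or.inl (odd_two_mul_add_one i'))
  refine card_classes_orth hr2 Q hnd (fun μ => μ 0 = 0 → (IsPlus Q ↔ (Odd i ∨ Even (2 * m / i)))) ?_ ?_
  · intro g hgQ hg h0
    exact key g hg ((mult_zero_iff _).1 h0) Q hnd fun x => hgQ x x
  · intro g hg hC S hS hgS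
    obtain ⟨Q', hQ'n, hQ'g, hQ'p⟩ := exists_form_of_type (Matrix.GeneralLinearGroup.toLin g).toLinearEquiv
      (iterate_toLin hg) ((Fact.out : r.Prime).odd_of_ne_two hr2) (NeZero.ne _) S hS
      (fun x y => by rw [happ, happ]; exact hgS x y) hdimV (IsPlus Q) (fun hfix Q' hQ' hgQ' => by
        have hfix' : ∀ x, (g : Matrix ι ι F) *ᵥ x = x → x = 0 := fun x hx => hfix x (by rw [happ]; exact hx)
        rw [hC ((mult_zero_iff _).2 hfix')]
        exact key g hg hfix' Q' hQ' fun x => by have := hgQ' x; rw [happ] at this; exact this)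
    obtain ⟨f, hf⟩ := exists_isometry_even Q' Q hQ'n hnd hdimV hdimV hQ'p
    exact ⟨Q', f, fun x => by have := hQ'g x; rw [happ] at this; exact this, hf⟩

/-- Classes in an odd-dimensional orthogonal group in odd characteristic. -/
theorem card_classes_orth_odd (hr2 : r ≠ 2) (h2 : (2 : F) ≠ 0) (m : ℕ) :
    Nat.card {D : ConjClasses ↥(Cfsg.isometryGroup F (Cfsg.quadFormOdd m F)) //
        ∃ g : ↥(Cfsg.isometryGroup F (Cfsg.quadFormOdd m F)), ConjClasses.mk g = D ∧ orderOf g = r} =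
      Nat.card {μ : ZMod r → ℕ // (∀ x, μ ((Fintype.card F : ZMod r) * x) = μ x) ∧
        ((∀ x, μ (-x) = μ x) ∧ True) ∧ ∑ x, μ x = 2 * m + 1 ∧ μ 0 ≠ 2 * m + 1} := by
  classical
  have hnd := CfsgLib.OrthCrit.ndPolar_oddForm h2 m
  have hcard : Fintype.card (Unit ⊕ (Fin m ⊕ Fin m)) = 2 * m + 1 := by simp; ring
  rw [← hcard]
  refine card_classes_orth hr2 (CfsgLib.OrthCrit.oddForm m F) hnd (fun _ => True) (fun _ _ _ => trivial) ?_
  intro g hg _ S hS hgS
  let A := (Matrix.GeneralLinearGroup.toLin g).toLinearEquiv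
  have happ : ∀ x, A x = (g : Matrix _ _ F) *ᵥ x := fun x => by simp [A]
  obtain ⟨V₀, V₁, mk, hc, -, hev, -, -, -, hmk⟩ := exists_split_form A
    (iterate_toLin hg) ((Fact.out : r.Prime).odd_of_ne_two hr2) (NeZero.ne _) S hS (fun x y => by rw [happ, happ]; exact hgS x y)
  obtain ⟨j, hj⟩ : Odd (finrank F V₀) := by
    have h1 := Submodule.finrank_add_eq_of_isCompl hc
    rw [Module.finrank_fintype_fun_eq_card, hcard] at h1
    have : Odd (finrank F V₀ + finrank F V₁) := by rw [h1]; exact odd_two_mul_add_one m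
    exact (Nat.odd_add.1 this).2 hev
  let e₀ : V₀ ≃ₗ[F] (Unit ⊕ (Fin j ⊕ Fin j) → F) := LinearEquiv.ofFinrankEq _ _ (by simp [hj]; ring)
  let Q₀ : QuadraticForm F V₀ := (CfsgLib.OrthCrit.oddForm j F).comp e₀.toLinearMap
  have hQ₀ : NDPolar Q₀ := fun x hx => e₀.map_eq_zero_iff.1 (CfsgLib.OrthCrit.ndPolar_oddForm h2 j _ fun y => by
    have h := hx (e₀.symm y)
    simpa [Q₀, polar, map_add] using h)
  obtain ⟨d, hd, E, hE⟩ := classify_odd h2 (mk Q₀) (hmk Q₀ hQ₀).1 (m := m)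
    (by rw [Module.finrank_fintype_fun_eq_card, hcard])
  refine ⟨d⁻¹ • mk Q₀, E.symm, fun x => ?_, fun x => ?_⟩
  · rw [QuadraticMap.smul_apply, QuadraticMap.smul_apply, ← happ, (hmk Q₀ hQ₀).2]
  · rw [QuadraticMap.smul_apply, smul_eq_mul]
    conv_rhs => rw [← E.apply_symm_apply x, hE, inv_mul_cancel_left₀ hd]

end Group

end CfsgLib.RootCount
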