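import Mathlib
import Cfsg.Agent.Lib.RootCount.Classes
import Cfsg.Agent.Lib.Conj.Unitary

/-!
Elements of order `r` in unitary groups.
-/

set_option autoImplicit false

namespace CfsgLib.RootCount

open Matrix

theorem orderOf_neg_of_odd {r : ℕ} [Fact r.Prime] (hr2 : r ≠ 2) (x : ZMod r) (h : Odd (orderOf x)) :
    orderOf (-x) = 2 * orderOf x := by
  have : Fact (2 < r) := ⟨lt_of_le_of_ne (Fact.out : r.Prime).two_le (Ne.symm hr2)⟩
  have h1 : orderOf (-1 : ZMod r) = 2 :=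
    orderOf_eq_prime (by ring) (ZMod.neg_one_ne_one)
  rw [← neg_one_mul x, (Commute.all _ _).orderOf_mul_eq_mul_orderOf_of_coprime (by rw [h1]; exact Nat.coprime_two_left.2 h), h1]

theorem pow_half {r : ℕ} [Fact r.Prime] (x : ZMod r) {k : ℕ} (hk : orderOf x = 2 * k) (hk0 : k ≠ 0) :
    x ^ k = -1 := by
  have h1 : x ^ k * x ^ k = 1 := by rw [← pow_add, ← two_mul, ← hk, pow_orderOf_eq_one]
  rcases mul_self_eq_one_iff.1 h1 with h | h
  · have := Nat.le_of_dvd (Nat.pos_of_ne_zero hk0) (hk ▸ orderOf_dvd_of_pow_eq_one h)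
    omega
  · exact h

theorem orderOf_neg_of_even {r : ℕ} [Fact r.Prime] (hr2 : r ≠ 2) (x : ZMod r) {k : ℕ}
    (hk : orderOf x = 2 * k) (hk0 : k ≠ 0) : orderOf (-x) = if Odd k then k else 2 * k := by
  have : Fact (2 < r) := ⟨lt_of_le_of_ne (Fact.out : r.Prime).two_le (Ne.symm hr2)⟩
  have hhalf := pow_half x hk hk0
  have hdvd : k ∣ orderOf (-x) := by
    have h1 : x ^ (2 * orderOf (-x)) = 1 := by
      rw [pow_mul, ← neg_sq, ← pow_mul, mul_comm, pow_mul, pow_orderOf_eq_one, one_pow]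
    have := orderOf_dvd_of_pow_eq_one h1
    rw [hk] at this
    exact Nat.dvd_of_mul_dvd_mul_left two_pos this
  split_ifs with ho
  · refine Nat.dvd_antisymm (orderOf_dvd_of_pow_eq_one ?_) hdvd
    rw [ho.neg_pow, hhalf, neg_neg]
  · have hne : (-x) ^ k ≠ 1 := by
      rw [(Nat.not_odd_iff_even.1 ho).neg_pow, hhalf]
      exact ZMod.neg_one_ne_one
    have hle : orderOf (-x) ∣ 2 * k := orderOf_dvd_of_pow_eq_one (by
      rw [Even.neg_pow ⟨k, two_mul k⟩, ← hk, pow_orderOf_eq_one])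
    obtain ⟨c, hc⟩ := hdvd
    rw [hc, mul_comm 2 k] at hle
    rcases (Nat.dvd_prime Nat.prime_two).1 (Nat.dvd_of_mul_dvd_mul_left (Nat.pos_of_ne_zero hk0) hle) with h | h
    · refine absurd ?_ hne
      rw [← orderOf_dvd_iff_pow_eq_one, hc, h, mul_one]
    · rw [hc, h, mul_comm]

variable {K : Type*} [Field K] [Fintype K] {q n r : ℕ} [Fact r.Prime] [NeZero (r : K)]

/-- Classes of elements of order `r` in `GU n` as multiplicity functions invariant under `-q`. -/
theorem card_classes_gu (hK : Fintype.card K = q ^ 2) (hq : (q : ZMod r) ≠ 0) {d s : ℕ}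
    (hd : d = orderOf (-(q : ZMod r))) (hs : s * d = r - 1) :
    Nat.card {C : ConjClasses ↥(Cfsg.GU n K q) // ∃ g : ↥(Cfsg.GU n K q), ConjClasses.mk g = C ∧ orderOf g = r} =
      (n / d + s).choose s - 1 := by
  classical
  obtain ⟨φ, hφq, hφ, hw⟩ := CfsgLib.Conj.exists_frob hK
  obtain ⟨p, hpc⟩ := CharP.exists K
  haveI : Fact p.Prime := ⟨CharP.char_is_prime K p⟩
  obtain ⟨k, hk⟩ : ∃ k, q = p ^ k := by
    obtain ⟨a, hp, ha⟩ := FiniteField.card K p
    obtain ⟨b, -, hb⟩ := (Nat.dvd_prime_pow hp).1 ((dvd_pow_self q two_ne_zero).trans (dvd_of_eq (hK.symm.trans ha)))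
    exact ⟨b, hb⟩
  haveI : CharP (Clo K) p := charP_of_injective_algebraMap (algebraMap K (Clo K)).injective p
  let ψ : Clo K →+* Clo K := iterateFrobenius (Clo K) p k
  have hψ : ∀ x, ψ x = x ^ q := fun x => by rw [hk]; exact iterateFrobenius_def p k x
  have hmult : ∀ (a : GL (Fin n) K) x,
      mult K r (CfsgLib.Conj.conjT (n := n) φ (a : Matrix (Fin n) (Fin n) K)) ((q : ZMod r) * x) =
        mult K r (a : Matrix (Fin n) (Fin n) K) x := fun a x => by
    show mult K r ((a : Matrix (Fin n) (Fin n) K).map φ).transpose _ = _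
    rw [mult_transpose, mult_map K r φ hφq hq ψ hψ]
  let ctu : GL (Fin n) K → GL (Fin n) K := fun u =>
    ⟨CfsgLib.Conj.conjT (n := n) φ u, CfsgLib.Conj.conjT (n := n) φ ↑u⁻¹,
      by rw [← CfsgLib.Conj.conjT_mul, ← Units.val_mul, inv_mul_cancel, Units.val_one, CfsgLib.Conj.conjT_one],
      CfsgLib.Conj.conjT_units φ u⟩
  have hctpow : ∀ u : GL (Fin n) K, u ^ r = 1 → (ctu u) ^ r = 1 := fun u hu => Units.ext (by
    have : ∀ j : ℕ, CfsgLib.Conj.conjT (n := n) φ ((u : Matrix (Fin n) (Fin n) K) ^ j) =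
        CfsgLib.Conj.conjT (n := n) φ (u : Matrix (Fin n) (Fin n) K) ^ j := fun j => by
      induction j with
      | zero => simpa using CfsgLib.Conj.conjT_one φ
      | succ j ih => rw [pow_succ', CfsgLib.Conj.conjT_mul, ih, ← pow_succ]
    show (CfsgLib.Conj.conjT (n := n) φ (u : Matrix (Fin n) (Fin n) K)) ^ r = 1
    rw [← this, ← Units.val_pow_eq_pow_val, hu, Units.val_one, CfsgLib.Conj.conjT_one])
  let P : (ZMod r → ℕ) → Prop := fun m => ∀ x, m (-(q : ZMod r) * x) = m x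
  rw [card_classes K r (Cfsg.GU n K q).subtype Subtype.val_injective ?_ P ?_]
  · let u : (ZMod r)ˣ := Units.mk0 (-(q : ZMod r)) (neg_ne_zero.2 hq)
    have hcard : Nat.card (Subgroup.zpowers u) = d := by rw [Nat.card_zpowers, ← orderOf_units, hd]; rfl
    rw [← hcard, ← card_inv_nontrivial (Subgroup.zpowers u) n (hcard ▸ hs), Fintype.card_fin]
    refine Nat.card_congr (Equiv.subtypeEquivRight fun m => ?_)
    rw [inv_zpowers_iff r]
    refine ⟨fun h => ⟨h.2.1, h.2.2⟩, fun h => ⟨fun x => ?_, h.1, h.2⟩⟩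
    have h1 : ∀ y, m (-(q : ZMod r) * y) = m y := h.1
    rw [hK, Nat.cast_pow, show (q : ZMod r) ^ 2 * x = -(q : ZMod r) * (-(q : ZMod r) * x) by ring, h1, h1]
  · intro a b ha hb hab
    obtain ⟨g, hg⟩ := isConj_iff.1 hab
    obtain ⟨h, hh, hconj⟩ := CfsgLib.Conj.exists_unitary_conj φ hφ hw a.1 b.1 g
      ((CfsgLib.Conj.mem_GU_iff φ hφq hφ _).1 a.2) ((CfsgLib.Conj.mem_GU_iff φ hφq hφ _).1 b.2)
      (mul_inv_eq_iff_eq_mul.1 hg)
    exact isConj_iff.2 ⟨⟨h, (CfsgLib.Conj.mem_GU_iff φ hφq hφ h).2 hh⟩,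
      mul_inv_eq_iff_eq_mul.2 (Subtype.ext hconj)⟩
  · intro g hg
    constructor
    · rintro ⟨a, ha⟩ x
      obtain ⟨c, hc⟩ := isConj_iff.1 ha
      have hm : mult K r (g : Matrix (Fin n) (Fin n) K) = mult K r ((a : GL (Fin n) K) : Matrix (Fin n) (Fin n) K) := by
        rw [← hc]
        show mult K r ((c * (a : GL (Fin n) K) * c⁻¹ : GL (Fin n) K) : Matrix (Fin n) (Fin n) K) = _
        rw [Units.val_mul, Units.val_mul, mult_units_conj]
      have har : (a : GL (Fin n) K) ^ r = 1 := by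
        rw [show (a : GL (Fin n) K) = c⁻¹ * g * c by rw [← hc]; simp [mul_assoc]]
        have hh := conj_pow (a := c⁻¹) (b := g) (i := r)
        rw [inv_inv] at hh
        rw [hh, hg, mul_one, inv_mul_cancel]
      rw [hm]
      have hinv : CfsgLib.Conj.conjT (n := n) φ ((a : GL (Fin n) K) : Matrix (Fin n) (Fin n) K) =
          (((a : GL (Fin n) K)⁻¹ : GL (Fin n) K) : Matrix (Fin n) (Fin n) K) :=
        (Units.inv_eq_of_mul_eq_one_left ((CfsgLib.Conj.mem_GU_iff φ hφq hφ _).1 a.2)).symm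
      rw [neg_mul, ← mult_inv K r har, ← hinv, hmult]
    · intro hP
      have hgm : mult K r (g : Matrix (Fin n) (Fin n) K) =
          mult K r (((ctu g)⁻¹ : GL (Fin n) K) : Matrix (Fin n) (Fin n) K) := by
        funext y
        rw [mult_inv K r (hctpow g hg)]
        obtain ⟨x, rfl⟩ : ∃ x, -(q : ZMod r) * x = y :=
          ⟨(-(q : ZMod r))⁻¹ * y, by rw [← mul_assoc, mul_inv_cancel₀ (neg_ne_zero.2 hq), one_mul]⟩
        rw [hP, neg_mul, neg_neg]
        exact (hmult g x).symm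
      obtain ⟨S, hS⟩ := isConj_iff.1 (isConj_of_mult_eq K r hg (by rw [inv_pow, hctpow g hg, inv_one]) hgm)
      obtain ⟨c, hc⟩ := CfsgLib.Conj.exists_unitary_similar φ hφ hw g S (by
        have : ctu g * S * g = S := by
          rw [mul_assoc, mul_inv_eq_iff_eq_mul.1 hS, ← mul_assoc, mul_inv_cancel, one_mul]
        exact congrArg Units.val this)
      exact ⟨⟨c * g * c⁻¹, (CfsgLib.Conj.mem_GU_iff φ hφq hφ _).2 hc⟩, IsConj.symm (isConj_iff.2 ⟨c, rfl⟩)⟩

end CfsgLib.RootCount
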