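import Mathlib
import Cfsg.Agent.Lib.RootCount.Symp
import Cfsg.Agent.Lib.RootCount.Unitary

/-!
Counts of symmetric Frobenius-invariant multiplicity functions with a condition at zero.
-/

set_option autoImplicit false

namespace CfsgLib.RootCount

variable {r : ℕ} [Fact r.Prime]

/-- The order of the group generated by `u` and `-1`, and the count with a condition on full tuples. -/
theorem card_sym_inv (hr2 : r ≠ 2) (u : (ZMod r)ˣ) {i t h s : ℕ} (hi : i = orderOf (u : ZMod r))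
    (ht : t * i = r - 1) (hh : h = if Odd i then 2 * i else i) (hs : s = if Odd i then t / 2 else t)
    (n : ℕ) (hn : 1 ≤ n) (C0 : Prop) [Decidable C0] :
    Nat.card {μ : ZMod r → ℕ // (∀ x, μ ((u : ZMod r) * x) = μ x) ∧ ((∀ x, μ (-x) = μ x) ∧ (μ 0 = 0 → C0)) ∧
        ∑ x, μ x = n ∧ μ 0 ≠ n} =
      (n / h + s).choose s - 1 - (if ¬ C0 ∧ h ∣ n then (n / h + s - 1).choose (s - 1) else 0) := by
  classical
  have hr := (Fact.out : r.Prime)
  let g : (ZMod r)ˣ := if Odd (orderOf (u : ZMod r)) then -u else u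
  have hcard : Nat.card (Subgroup.zpowers g) = h := by
    rw [hh, Nat.card_zpowers, ← orderOf_units, hi]
    split_ifs with ho
    · simp only [g, if_pos ho, Units.val_neg]
      exact orderOf_neg_of_odd hr2 _ ho
    · simp only [g, if_neg ho]
  have hsh : s * Nat.card (Subgroup.zpowers g) = r - 1 := by
    rw [hcard, hh, hs]
    split_ifs with ho
    · obtain ⟨t', rfl⟩ : Even t := by
        have he : Even (t * i) := ht ▸ Nat.Prime.even_sub_one hr hr2
        exact (Nat.even_mul.1 he).resolve_right (Nat.not_even_iff_odd.2 ho)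
      rw [← ht, ← two_mul t', Nat.mul_div_cancel_left _ two_pos]; ring
    · exact ht
  have hs0 : 1 ≤ s := Nat.one_le_iff_ne_zero.2 fun h0 => by
    rw [h0, zero_mul] at hsh; have := hr.two_le; omega
  let α := {μ : ZMod r → ℕ // Inv (Subgroup.zpowers g) μ ∧ ∑ x, μ x = n ∧ μ 0 ≠ n}
  have e : {μ : ZMod r → ℕ // (∀ x, μ ((u : ZMod r) * x) = μ x) ∧ ((∀ x, μ (-x) = μ x) ∧ (μ 0 = 0 → C0)) ∧
      ∑ x, μ x = n ∧ μ 0 ≠ n} ≃ {μ : α // μ.1 0 = 0 → C0} :=
    { toFun := fun μ => ⟨⟨μ.1, (inv_q_neg_iff hr2 u μ.1).1 ⟨μ.2.1, μ.2.2.1.1⟩, μ.2.2.2⟩, μ.2.2.1.2⟩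
      invFun := fun μ => ⟨μ.1.1, ((inv_q_neg_iff hr2 u μ.1.1).2 μ.1.2.1).1,
        ⟨((inv_q_neg_iff hr2 u μ.1.1).2 μ.1.2.1).2, μ.2⟩, μ.1.2.2⟩
      left_inv := fun μ => rfl
      right_inv := fun μ => rfl }
  have hα : Nat.card α = (n / h + s).choose s - 1 := by
    show Nat.card {μ : ZMod r → ℕ // _} = _
    rw [card_inv_nontrivial (Subgroup.zpowers g) n hsh, hcard]
  rw [Nat.card_congr e]
  by_cases hC : C0
  · rw [if_neg (fun hx => hx.1 hC), Nat.sub_zero, Nat.card_congr (Equiv.subtypeUnivEquiv fun _ _ => hC), hα]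
  have : Finite α := by
    refine Finite.of_injective (β := ZMod r → Fin (n + 1)) (fun μ x => ⟨μ.1 x, Nat.lt_succ_of_le ?_⟩) fun a b hab => ?_
    · exact (Finset.single_le_sum (fun y _ => Nat.zero_le (μ.1 y)) (Finset.mem_univ x)).trans μ.2.2.1.le
    · exact Subtype.ext (funext fun x => congrArg Fin.val (congrFun hab x))
  have := Fintype.ofFinite α
  let β := {μ : α // μ.1 0 = 0}
  have hsplit : Nat.card {μ : α // μ.1 0 = 0 → C0} = Nat.card α - Nat.card β := by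
    rw [Nat.card_congr (Equiv.subtypeEquivRight (fun μ : α => (by simp [hC] : (μ.1 0 = 0 → C0) ↔ ¬ μ.1 0 = 0))),
      Nat.card_eq_fintype_card, Fintype.card_subtype_compl, ← Nat.card_eq_fintype_card, ← Nat.card_eq_fintype_card]
  rw [hsplit, hα]
  congr 1
  split_ifs with hd
  · let e' : β ≃ {μ : ZMod r → ℕ // Inv (Subgroup.zpowers g) μ ∧ ∑ x, μ x = n ∧ μ 0 = 0} :=
      { toFun := fun μ => ⟨μ.1.1, μ.1.2.1, μ.1.2.2.1, μ.2⟩
        invFun := fun μ => ⟨⟨μ.1, μ.2.1, μ.2.2.1, by rw [μ.2.2.2]; omega⟩, μ.2.2.2⟩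
        left_inv := fun μ => rfl
        right_inv := fun μ => rfl }
    rw [Nat.card_congr e', card_inv_full (Subgroup.zpowers g) n hsh (hcard ▸ hd.2), hcard]
    exact Nat.choose_symm_of_eq_add (by generalize n / h = d; omega)
  · rw [Nat.card_eq_zero]
    refine Or.inl ⟨fun μ => hd ⟨hC, ?_⟩⟩
    have hH := Fintype.ofFinite ((ZMod r)ˣ ⧸ Subgroup.zpowers g)
    have h1 := μ.1.2.2.1
    rw [sum_eq, μ.2, zero_add, show ∑ v : (ZMod r)ˣ, μ.1.1 v = ∑ v : (ZMod r)ˣ, orbitFun _ μ.1.1 μ.1.2.1 v from rfl,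
      sum_lift] at h1
    rw [← hcard, ← h1]
    exact dvd_mul_right _ _

end CfsgLib.RootCount
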